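import Cfsg.Agent.Lib.RootSubgroups.McLaughlin.CaseB

/-!
A connected system in which every centre has a single functional is of symplectic type.
-/

set_option autoImplicit false

namespace CfsgLib.RootSubgroups.McLaughlin

open Submodule

variable {K : Type*} [Field K] {V : Type*} [AddCommGroup V] [Module K V]
variable {R : V → Module.Dual K V → Prop}

theorem exists_avoid_three (h2 : (2 : K) ≠ 0) {W : Submodule K V} {A B : Module.Dual K V}
    (hA : ∃ x ∈ W, A x ≠ 0) (hB : ∃ x ∈ W, B x ≠ 0) (hAB : ∃ x ∈ W, A x + B x ≠ 0) :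
    ∃ z ∈ W, A z ≠ 0 ∧ B z ≠ 0 ∧ A z + B z ≠ 0 := by
  obtain ⟨x, hx, hxA, hxB⟩ := exists_both (W := W.toAddSubgroup) (f := A.toAddMonoidHom) (g := B.toAddMonoidHom) hA hB
  change A x ≠ 0 at hxA
  change B x ≠ 0 at hxB
  by_cases hs : A x + B x = 0
  swap
  · exact ⟨x, hx, hxA, hxB, hs⟩
  obtain ⟨y, hy, hyS⟩ := hAB
  by_cases hyA : A y = 0
  · -- shift along `x`
    have hyB : B y ≠ 0 := by simpa [hyA] using hyS
    by_cases h1 : B (y + x) = 0
    · refine ⟨y - x, W.sub_mem hy hx, by simp [hyA, hxA], ?_, by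
        rw [map_sub, map_sub]; intro h; apply hyS; linear_combination h + hs⟩
      rw [map_add] at h1
      rw [map_sub]
      intro h
      exact mul_ne_zero h2 hyB (by linear_combination h + h1)
    · exact ⟨y + x, W.add_mem hy hx, by simp [hyA, hxA], h1, by
        rw [map_add, map_add]; intro h; apply hyS; linear_combination h - hs⟩
  · by_cases hyB : B y = 0
    · by_cases h1 : A (y + x) = 0
      · refine ⟨y - x, W.sub_mem hy hx, ?_, by simp [hyB, hxB], by
          rw [map_sub, map_sub]; intro h; apply hyS; linear_combination h + hs⟩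
        rw [map_add] at h1
        rw [map_sub]
        intro h
        exact mul_ne_zero h2 hyA (by linear_combination h + h1)
      · exact ⟨y + x, W.add_mem hy hx, h1, by simp [hyB, hxB], by
          rw [map_add, map_add]; intro h; apply hyS; linear_combination h - hs⟩
    · exact ⟨y, hy, hyA, hyB, hyS⟩

theorem eq_of_eqOn_offKernel {W : Submodule K V} {μ f g : Module.Dual K V} (hμ : ∃ x ∈ W, μ x ≠ 0)
    (h : ∀ x ∈ W, μ x ≠ 0 → f x = g x) : ∀ x ∈ W, f x = g x := by
  intro x hx
  by_cases hμx : μ x = 0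
  · obtain ⟨y, hy, hμy⟩ := hμ
    have e := h (x + y) (W.add_mem hx hy) (by rwa [map_add, hμx, zero_add])
    rw [map_add, map_add, h y hy hμy] at e
    exact add_right_cancel e
  · exact h x hx hμx

/-- A connected faithful system with one functional for each centre is of symplectic type. -/
theorem symplectic_type (hS : Sys R) (h2 : (2 : K) ≠ 0)
    (hlink : ∀ v w, (∃ φ, R v φ) → (∃ ψ, R w ψ) → Linked R v w)
    (hfaith : ∀ c d φ ψ, R c φ → R d ψ → φ d = 0 → ψ c = 0 → (∀ x ∈ centres R, φ x = ψ x) →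
      (∀ χ ∈ axesSpan R, χ c = χ d) → ∀ x, φ x • c = ψ x • d)
    (hA : ∀ v φ ψ, R v φ → R v ψ → ∃ a : K, ψ = a • φ) :
    (∀ x ∈ centres R, (∀ φ ∈ axesSpan R, φ x = 0) → x = 0) ∧
    (∀ φ ∈ axesSpan R, (∀ x ∈ centres R, φ x = 0) → φ = 0) ∧
    ∃ L : centres R →ₗ[K] Module.Dual K V, (∀ x : centres R, L x (x : V) = 0) ∧ (∀ x : centres R, x ≠ 0 → R (x : V) (L x)) ∧
      ∀ (x : centres R) φ, R (x : V) φ → ∃ a : K, φ = a • L x := by
  classical
  set W := centres R with hW
  have symm : ∀ {v w : V} {φ ψ : Module.Dual K V}, R v φ → R w ψ → φ w = 0 → ψ v = 0 := by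
    intro v w φ ψ hv hw h
    by_contra h'
    obtain ⟨a, ha⟩ := hA w ψ φ hw (hS.comm hv hw h h')
    have e := congrArg (fun f : Module.Dual K V => f v) ha
    simp only [hS.self hv, LinearMap.smul_apply, smul_eq_mul] at e
    rcases mul_eq_zero.1 e.symm with rfl | e
    · exact hS.ne_right hv (by rw [ha, zero_smul])
    · exact h' e
  have tri : ∀ {x y e : V} {α β η : Module.Dual K V}, R x α → R y β → R e η → α y ≠ 0 → η y ≠ 0 →
      α y * β e * η x = -(β x * η y * α e) := by
    intro x y e α β η hx hy he hxy hey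
    have hyx : β x ≠ 0 := fun h => hxy (symm hy hx h)
    have hl := hS.line hx hy hyx (-(η x / η y))
    have h0 := symm he hl (by simp [div_mul_cancel₀ _ hey])
    simp only [LinearMap.sub_apply, LinearMap.smul_apply, smul_eq_mul] at h0
    field_simp at h0
    linear_combination h0
  have near : ∀ c d, (∃ φ, R c φ) → (∃ ψ, R d ψ) → ∃ e η, R e η ∧ η c ≠ 0 ∧ η d ≠ 0 := by
    intro c d hc hd
    obtain ⟨φ, hφ⟩ := hc
    have hl := hlink c d ⟨φ, hφ⟩ hd
    clear hd
    induction hl with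
    | refl =>
      obtain ⟨w, ψ, hw, -, h'⟩ := hS.partner hφ
      exact ⟨w, ψ, hw, h', h'⟩
    | @tail d h hcd hadj ih =>
      obtain ⟨e, η, he, hec, hed⟩ := ih
      obtain ⟨δ, hδ, hδh⟩ := hadj.1
      have hde : δ e ≠ 0 := fun h0 => hed (symm hδ he h0)
      obtain ⟨k, hk1, hk2⟩ := exists_avoid_two h2 (a := η c) (b := -(η d / δ e * δ c)) (c := η h)
        (d := -(η d / δ e * δ h)) (Or.inr hec) (Or.inl (neg_ne_zero.2 (mul_ne_zero (div_ne_zero hed hde) hδh)))
      refine ⟨_, _, hS.line he hδ hde k, ?_, ?_⟩ <;>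
        simp only [LinearMap.sub_apply, LinearMap.smul_apply, smul_eq_mul]
      · convert hk1 using 1; ring
      · convert hk2 using 1; ring
  have sum : ∀ c d, (∃ φ, R c φ) → (∃ ψ, R d ψ) → c + d ≠ 0 → ∃ ζ, R (c + d) ζ := by
    rintro c d ⟨φ, hφ⟩ ⟨δ, hδ⟩ hcd
    by_cases hφd : φ d = 0
    swap
    · have hδc : δ c ≠ 0 := fun h => hφd (symm hδ hφ h)
      have hl := hS.line hφ hδ hδc 1
      rw [one_smul] at hl
      exact ⟨_, hl⟩
    have hδc : δ c = 0 := symm hφ hδ hφd
    obtain ⟨e, η, he, hec, hed⟩ := near c d ⟨φ, hφ⟩ ⟨δ, hδ⟩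
    have main : ∀ e η, R e η → η c ≠ 0 → η d ≠ 0 → η (c + d) ≠ 0 → ∃ ζ, R (c + d) ζ := by
      intro e η he hec hed hsum
      have l1 := hS.line hφ he hec 1
      rw [one_smul] at l1
      have hδe : δ e ≠ 0 := fun h => hed (symm hδ he h)
      have hd1 : δ (c + e) ≠ 0 := by rwa [map_add, hδc, zero_add]
      have l2 := hS.line l1 hδ hd1 1
      rw [one_smul] at l2
      have l3 := hS.line l2 he (by simpa [hS.self he] using hsum) (-1)
      rw [show c + e + d + (-1 : K) • e = c + d by module] at l3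
      exact ⟨_, l3⟩
    by_cases hex : ∃ g χ, R g χ ∧ χ (c + d) ≠ 0
    · obtain ⟨g, χ, hg, hgsum⟩ := hex
      have half : ∀ c d φ δ, R c φ → R d δ → φ d = 0 → δ c = 0 → η c ≠ 0 → η d ≠ 0 → χ c = 0 → χ d ≠ 0 →
          ∃ f ζ, R f ζ ∧ ζ c ≠ 0 ∧ ζ d ≠ 0 ∧ (η c + η d = 0 → ζ (c + d) ≠ 0) := by
        intro c d φ δ hφ hδ hφd hδc hec hed hgc hgd
        obtain ⟨e1, η1, he1, h1c, h1d, h1g⟩ : ∃ e1 η1, R e1 η1 ∧ η1 c = η c ∧ η1 d = η d ∧ χ e1 ≠ 0 := by
          by_cases hge : χ e = 0
          · have hδe : δ e ≠ 0 := fun h => hed (symm hδ he h)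
            refine ⟨_, _, hS.line he hδ hδe 1, by simp [hδc], by simp [hS.self hδ], ?_⟩
            rw [map_add, map_smul, hge, zero_add, one_smul]
            exact hgd
          · exact ⟨e, η, he, rfl, rfl, hge⟩
        have h1ne : η1 g ≠ 0 := fun h => h1g (symm he1 hg h)
        obtain ⟨k, hk1, hk2⟩ := exists_avoid_two h2 (a := η d) (b := -(η1 g / χ e1 * χ d)) (c := 0) (d := (1 : K))
          (Or.inr hed) (Or.inl one_ne_zero)
        have hk0 : k ≠ 0 := by simpa using hk2
        refine ⟨_, _, hS.line he1 hg h1g k, ?_, ?_, ?_⟩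
        · simp [hgc, h1c, hec]
        · rw [LinearMap.sub_apply, LinearMap.smul_apply, smul_eq_mul, h1d]
          convert hk1 using 1
          ring
        · intro hz h
          simp only [LinearMap.sub_apply, LinearMap.smul_apply, smul_eq_mul, map_add, h1c, h1d, hgc] at h
          refine mul_ne_zero (div_ne_zero (mul_ne_zero h1ne hk0) h1g) hgd ?_
          linear_combination hz - h
      by_cases hz : η (c + d) = 0
      swap
      · exact main e η he hec hed hz
      rw [map_add] at hz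
      by_cases hgc : χ c = 0
      · have hgd : χ d ≠ 0 := by rwa [map_add, hgc, zero_add] at hgsum
        obtain ⟨f, ζ, hf, a, b, s⟩ := half c d φ δ hφ hδ hφd hδc hec hed hgc hgd
        exact main f ζ hf a b (s hz)
      · by_cases hgd : χ d = 0
        · obtain ⟨f, ζ, hf, a, b, s⟩ := half d c δ φ hδ hφ hδc hφd hed hec hgd hgc
          exact main f ζ hf b a (by rw [add_comm c d]; exact s (by rwa [add_comm]))
        · exact main g χ hg hgc hgd hgsum
    push Not at hex
    -- all functionals kill `c + d`: the two transvections induce the same map on the centres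
    have hneg : ∀ g χ, R g χ → χ c = -χ d := fun g χ hg => by
      have h := hex g χ hg
      rw [map_add] at h
      linear_combination h
    have hφe : φ e ≠ 0 := fun h => hec (symm hφ he h)
    have hδe : δ e ≠ 0 := fun h => hed (symm hδ he h)
    have hprop : ∀ y β, R y β → δ y * φ e = φ y * δ e := by
      intro y β hy
      have case1 : ∀ y β, R y β → φ y ≠ 0 → η y ≠ 0 → δ y * φ e = φ y * δ e := by
        intro y β hy hφy hηy
        have hβe : β e ≠ 0 := fun h => hηy (symm hy he h)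
        have hδy : δ y ≠ 0 := fun h => hφy (symm hy hφ (by rw [hneg y β hy, symm hδ hy h, neg_zero]))
        have t1 := tri hφ hy he hφy hηy
        have t2 := tri hδ hy he hδy hηy
        rw [hneg e η he, hneg y β hy] at t1
        refine mul_left_cancel₀ (mul_ne_zero hβe hed) ?_
        linear_combination φ e * t2 + δ e * t1
      by_cases hφy : φ y = 0
      · have hδy : δ y = 0 := symm hy hδ (neg_eq_zero.1 ((hneg y β hy).symm.trans (symm hφ hy hφy)))
        rw [hδy, hφy, zero_mul, zero_mul]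
      by_cases hηy : η y = 0
      · have hβc : β c ≠ 0 := fun h => hφy (symm hy hφ h)
        have e' := case1 _ _ (hS.line hy hφ hφy 1) (by simp [hS.self hφ, hφy]) (by simp [hηy, hec])
        simpa [hS.self hφ, hδc] using e'
      · exact case1 y β hy hφy hηy
    have hprop' : ∀ x ∈ W, δ x * φ e = φ x * δ e := by
      intro x hx
      induction hx using Submodule.span_induction with
      | mem x hx => exact hprop x hx.choose hx.choose_spec
      | zero => simp
      | add x y _ _ hx hy => simp only [map_add, add_mul]; rw [hx, hy]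
      | smul a x _ hx => simp only [map_smul, smul_eq_mul, mul_assoc]; rw [hx]
    have hd' := hS.smul_right (hS.smul_left hδ (neg_ne_zero.2 (one_ne_zero (α := K)))) (div_ne_zero hφe hδe)
    have hf := hfaith c ((-1 : K) • d) φ ((φ e / δ e) • δ) hφ hd' (by simp [hφd]) (by simp [hδc])
      (fun x hx => by
        rw [LinearMap.smul_apply, smul_eq_mul, div_mul_eq_mul_div, eq_div_iff hδe]
        linear_combination -hprop' x hx)
      (fun χ hχ => by
        induction hχ using Submodule.span_induction with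
        | mem χ hχ => rw [map_smul, hneg _ χ hχ.choose_spec]; simp
        | zero => simp
        | add x y _ _ hx hy => simp only [LinearMap.add_apply, hx, hy]
        | smul a x _ hx => simp only [LinearMap.smul_apply, hx])
    have he' := hf e
    rw [LinearMap.smul_apply, smul_eq_mul, div_mul_cancel₀ _ hδe] at he'
    have hc := smul_right_injective V hφe he'
    exact absurd (by rw [hc]; module) hcd
  have pts : ∀ v ∈ W, v ≠ 0 → ∃ φ, R v φ := by
    intro v hv
    induction hv using Submodule.span_induction with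
    | mem x hx => exact fun _ => hx
    | zero => exact fun h => absurd rfl h
    | add x y _ _ hx hy =>
      intro h
      rcases eq_or_ne x 0 with rfl | hx0
      · rw [zero_add] at h ⊢; exact hy h
      rcases eq_or_ne y 0 with rfl | hy0
      · rw [add_zero] at h ⊢; exact hx h
      exact sum x y (hx hx0) (hy hy0) h
    | smul a x _ hx =>
      intro h
      rw [smul_ne_zero_iff] at h
      exact (hx h.2).imp fun φ hφ => hS.smul_left hφ h.1
  have hR0 : ∀ x ∈ W, (∀ φ ∈ axesSpan R, φ x = 0) → x = 0 := by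
    intro x hx h
    by_contra hx0
    obtain ⟨χ, hχ⟩ := pts x hx hx0
    obtain ⟨w, ψ, hw, -, h'⟩ := hS.partner hχ
    exact h' (h ψ (mem_axesSpan hw))
  rcases eq_or_ne W ⊥ with hW0 | hW0
  · have hnone : ∀ v φ, ¬ R v φ := fun v φ h => hS.ne_left h ((Submodule.mem_bot K).1 (hW0 ▸ mem_centres h))
    refine ⟨hR0, fun φ hφ _ => ?_, 0, fun x => rfl, fun x hx => absurd (Subtype.ext ((Submodule.mem_bot K).1 (hW0 ▸ x.2)) : x = 0) hx, fun x φ h => absurd h (hnone _ _)⟩
    have hb : axesSpan R ≤ ⊥ := span_le.2 fun x hx => absurd hx.choose_spec (hnone _ _)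
    exact (Submodule.mem_bot K).1 (hb hφ)
  obtain ⟨e, heW, he0⟩ := Submodule.exists_mem_ne_zero_of_ne_bot hW0
  have hf : ∀ x : V, ∃ φ : Module.Dual K V, x ∈ W → x ≠ 0 → R x φ := fun x =>
    if h : x ∈ W ∧ x ≠ 0 then ⟨(pts x h.1 h.2).choose, fun _ _ => (pts x h.1 h.2).choose_spec⟩
    else ⟨0, fun h1 h2 => absurd ⟨h1, h2⟩ h⟩
  choose f hf using hf
  have hη : R e (f e) := hf e heW he0
  set η := f e with hηdef
  obtain ⟨w0, ψ0, hw0, hηw0, -⟩ := hS.partner hη
  have hηW : ∃ x ∈ W, η x ≠ 0 := ⟨w0, mem_centres hw0, hηw0⟩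
  let L0 : V → Module.Dual K V := fun x => (-(η x / f x e)) • f x
  have hS' : ∀ x ∈ W, η x ≠ 0 → R x (f x) ∧ f x e ≠ 0 := fun x hx h => by
    have hx0 : x ≠ 0 := fun h0 => h (by rw [h0, map_zero])
    exact ⟨hf x hx hx0, fun h0 => h (symm (hf x hx hx0) hη h0)⟩
  have skew : ∀ s t, s ∈ W → t ∈ W → η s ≠ 0 → η t ≠ 0 → L0 s t = -(L0 t s) := by
    intro s t hs ht hηs hηt
    obtain ⟨r1, n1⟩ := hS' s hs hηs
    obtain ⟨r2, n2⟩ := hS' t ht hηt
    simp only [L0, LinearMap.smul_apply, smul_eq_mul]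
    by_cases hst : f s t = 0
    · rw [hst, symm r1 r2 hst]
      simp
    · have h := tri r1 r2 hη hst hηt
      field_simp
      linear_combination -h
  -- the bilinear form, as functionals on the centres
  have hψ : ∀ x ∈ W, ∃ ψ : Module.Dual K V, ∀ s ∈ W, η s ≠ 0 → ψ s = -(L0 s x) := by
    let M : Submodule K V :=
      { carrier := {x | ∃ ψ : Module.Dual K V, ∀ s ∈ W, η s ≠ 0 → ψ s = -(L0 s x)}
        zero_mem' := ⟨0, fun s _ _ => by simp⟩
        add_mem' := by
          rintro x y ⟨a, ha⟩ ⟨b, hb⟩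
          exact ⟨a + b, fun s hs h => by rw [LinearMap.add_apply, ha s hs h, hb s hs h, map_add]; ring⟩
        smul_mem' := by
          rintro k x ⟨a, ha⟩
          exact ⟨k • a, fun s hs h => by rw [LinearMap.smul_apply, ha s hs h, map_smul, smul_neg]⟩ }
    have hMS : ∀ s ∈ W, η s ≠ 0 → s ∈ M := fun s hs h => ⟨L0 s, fun t ht h' => skew s t hs ht h h'⟩
    intro x hx
    show x ∈ M
    by_cases hηx : η x = 0
    · obtain ⟨y, hy, hηy⟩ := hηW
      have := M.sub_mem (hMS (x + y) (W.add_mem hx hy) (by rwa [map_add, hηx, zero_add])) (hMS y hy hηy)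
      rwa [add_sub_cancel_right] at this
    · exact hMS x hx hηx
  let Good : V → Module.Dual K V → Prop := fun x ξ =>
    (∃ a : K, ξ = a • f x) ∧ ∀ s ∈ W, η s ≠ 0 → ξ s = -(L0 s x)
  have nzW : ∀ x ∈ W, x ≠ 0 → ∃ s ∈ W, η s ≠ 0 ∧ f x s ≠ 0 := by
    intro x hx hx0
    obtain ⟨w, ψ, hw, h1, -⟩ := hS.partner (hf x hx hx0)
    obtain ⟨s, hs, h1', h2'⟩ := exists_both (W := W.toAddSubgroup) (f := η.toAddMonoidHom)
      (g := (f x).toAddMonoidHom) hηW ⟨w, mem_centres hw, h1⟩
    exact ⟨s, hs, h1', h2'⟩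
  have good_ex : ∀ x ∈ W, x ≠ 0 → ∃ ξ, Good x ξ := by
    intro x hx hx0
    obtain ⟨ψ, hψx⟩ := hψ x hx
    obtain ⟨s0, hs0, hηs0, hfs0⟩ := nzW x hx hx0
    refine ⟨(ψ s0 / f x s0) • f x, ⟨_, rfl⟩, fun s hs hηs => ?_⟩
    rw [← hψx s hs hηs, LinearMap.smul_apply, smul_eq_mul, div_mul_eq_mul_div, div_eq_iff hfs0]
    -- the functional `f x s0 • ψ - ψ s0 • f x` vanishes on the centres
    have hzero : ∀ s ∈ W, η s ≠ 0 → f x s = 0 → ψ s = 0 := fun s hs hηs h => by
      rw [hψx s hs hηs]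
      simp [L0, symm (hf x hx hx0) (hS' s hs hηs).1 h]
    have hzero' : ∀ s ∈ W, f x s = 0 → ψ s = 0 := by
      intro s hs h
      by_cases hηs : η s = 0
      swap
      · exact hzero s hs hηs h
      by_contra hne
      -- on the coset of `s` through any centre off the kernel of `η` the zero sets agree
      have hz2 : ∀ t ∈ W, η t ≠ 0 → f x t ≠ 0 → ψ t ≠ 0 := fun t ht hηt h => by
        obtain ⟨r, -⟩ := hS' t ht hηt
        rw [hψx t ht hηt, neg_ne_zero]
        simp only [L0, LinearMap.smul_apply, smul_eq_mul]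
        exact mul_ne_zero (neg_ne_zero.2 (div_ne_zero hηt (hS' t ht hηt).2)) fun h0 =>
          h (symm r (hf x hx hx0) h0)
      have ht : s0 + (-(ψ s0 / ψ s)) • s ∈ W := W.add_mem hs0 (W.smul_mem _ hs)
      refine hz2 _ ht (by simp [hηs, hηs0]) (by simp [h, hfs0]) ?_
      simp [div_mul_cancel₀ _ hne]
    have e := hzero' (f x s0 • s - f x s • s0) (W.sub_mem (W.smul_mem _ hs) (W.smul_mem _ hs0)) (by simp; ring)
    simp only [map_sub, map_smul, smul_eq_mul] at e
    linear_combination -e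
  have onW : ∀ x ξ ξ', Good x ξ → Good x ξ' → ∀ s ∈ W, ξ s = ξ' s := fun x ξ ξ' h h' =>
    eq_of_eqOn_offKernel hηW fun s hs hηs => by rw [h.2 s hs hηs, h'.2 s hs hηs]
  have good_unique : ∀ x ∈ W, x ≠ 0 → ∀ ξ ξ', Good x ξ → Good x ξ' → ξ = ξ' := by
    intro x hx hx0 ξ ξ' h h'
    obtain ⟨s, hs, -, hfs⟩ := nzW x hx hx0
    have e := onW x ξ ξ' h h' s hs
    obtain ⟨a, rfl⟩ := h.1
    obtain ⟨b, rfl⟩ := h'.1
    simp only [LinearMap.smul_apply, smul_eq_mul] at e
    rw [mul_right_cancel₀ hfs e]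
  have hL : ∀ x : W, ∃ ξ, Good x ξ ∧ ((x : V) = 0 → ξ = 0) := by
    intro x
    by_cases hx : (x : V) = 0
    · exact ⟨0, ⟨⟨0, (zero_smul K _).symm⟩, fun s _ _ => by simp [hx]⟩, fun _ => rfl⟩
    · obtain ⟨ξ, hξ⟩ := good_ex x x.2 hx
      exact ⟨ξ, hξ, fun h => absurd h hx⟩
  choose L hLg hL0 using hL
  have Lne : ∀ x : W, (x : V) ≠ 0 → ∃ a : K, a ≠ 0 ∧ L x = a • f x := by
    intro x hx
    obtain ⟨a, ha⟩ := (hLg x).1
    refine ⟨a, fun h0 => ?_, ha⟩
    obtain ⟨s, hs, hηs, hfs⟩ := nzW x x.2 hx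
    obtain ⟨r, n⟩ := hS' s hs hηs
    have e := (hLg x).2 s hs hηs
    simp only [ha, h0, zero_smul, LinearMap.zero_apply, L0, LinearMap.smul_apply, smul_eq_mul] at e
    exact mul_ne_zero (neg_ne_zero.2 (div_ne_zero hηs n)) (fun h => hfs (symm r (hf x x.2 hx) h))
      (by linear_combination e)
  have addW : ∀ x y : W, ∀ s ∈ W, L (x + y) s = L x s + L y s := fun x y =>
    eq_of_eqOn_offKernel (g := L x + L y) hηW fun s hs hηs => by
      rw [LinearMap.add_apply, (hLg _).2 s hs hηs, (hLg x).2 s hs hηs, (hLg y).2 s hs hηs, Submodule.coe_add,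
        map_add]
      ring
  have smulW : ∀ (k : K) (x : W), L (k • x) = k • L x := by
    intro k x
    by_cases h : ((k • x : W) : V) = 0
    · rw [hL0 _ h]
      rcases smul_eq_zero.1 h with rfl | hx
      · rw [zero_smul]
      · rw [hL0 x hx, smul_zero]
    · have hk : k ≠ 0 := fun hk => h (by simp [hk])
      have hx : (x : V) ≠ 0 := fun hx => h (by simp [hx])
      refine good_unique _ (k • x).2 h _ _ (hLg _) ⟨?_, fun s hs hηs => ?_⟩
      · obtain ⟨a, ha, he⟩ := Lne x hx
        obtain ⟨b, hb⟩ := hA _ (f ((k • x : W) : V)) (f x) (hf _ (k • x).2 h)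
          (hS.smul_left (hf x x.2 hx) hk)
        exact ⟨k * a * b, by rw [he, hb, smul_smul, smul_smul, mul_assoc]⟩
      · rw [LinearMap.smul_apply, (hLg x).2 s hs hηs, Submodule.coe_smul, map_smul, smul_neg]
  have add_nonperp : ∀ x y : W, L x y ≠ 0 → L (x + y) = L x + L y := by
    intro x y hxy
    have hx : (x : V) ≠ 0 := fun h => hxy (by rw [hL0 x h]; rfl)
    have hy : (y : V) ≠ 0 := fun h => hxy (by rw [h, map_zero])
    obtain ⟨a, ha, hxe⟩ := Lne x hx
    obtain ⟨b, hb, hye⟩ := Lne y hy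
    have h1 : R (x : V) (L x) := hxe ▸ hS.smul_right (hf x x.2 hx) ha
    have h2' : R (y : V) (L y) := hye ▸ hS.smul_right (hf y y.2 hy) hb
    have hyx : L y (x : V) ≠ 0 := fun h => hxy (symm h2' h1 h)
    have hl := hS.line h1 h2' hyx 1
    rw [one_smul, ← Submodule.coe_add] at hl
    have hsum : ((x + y : W) : V) ≠ 0 := hS.ne_left hl
    obtain ⟨c, hc, hse⟩ := Lne (x + y) hsum
    obtain ⟨t, ht⟩ := hA _ _ _ hl (hS.smul_right (hf _ (x + y).2 hsum) hc)
    rw [← hse] at ht
    set k := L x y * 1 / L y x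
    have e1 := addW x y y y.2
    rw [ht, LinearMap.smul_apply, LinearMap.sub_apply, LinearMap.smul_apply, hS.self h2', smul_zero, sub_zero,
      add_zero, smul_eq_mul] at e1
    have ht1 : t = 1 := mul_right_cancel₀ hxy (by linear_combination e1)
    have e2 := addW x y x x.2
    rw [ht, ht1, one_smul, LinearMap.sub_apply, LinearMap.smul_apply, hS.self h1, zero_sub, zero_add,
      smul_eq_mul] at e2
    have hk : k = -1 := mul_right_cancel₀ hyx (by linear_combination -e2)
    rw [ht, ht1, one_smul, hk]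
    module
  have Lself : ∀ x : W, L x (x : V) = 0 := by
    intro x
    by_cases hx : (x : V) = 0
    · rw [hx, map_zero]
    · obtain ⟨a, -, h⟩ := Lne x hx
      rw [h, LinearMap.smul_apply, hS.self (hf x x.2 hx), smul_zero]
  have addL : ∀ x y : W, L (x + y) = L x + L y := by
    intro x y
    by_cases hx : (x : V) = 0
    · rw [show x = 0 from Subtype.ext hx, zero_add, hL0 0 rfl, zero_add]
    by_cases hy : (y : V) = 0
    · rw [show y = 0 from Subtype.ext hy, add_zero, hL0 0 rfl, add_zero]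
    by_cases hxy : L x y = 0
    swap
    · exact add_nonperp x y hxy
    have nz : ∀ x : W, (x : V) ≠ 0 → ∃ s ∈ W, L x s ≠ 0 := fun x hx => by
      obtain ⟨a, ha, h⟩ := Lne x hx
      obtain ⟨s, hs, -, hfs⟩ := nzW x x.2 hx
      exact ⟨s, hs, by rw [h, LinearMap.smul_apply]; exact smul_ne_zero ha hfs⟩
    by_cases hs : ((x + y : W) : V) = 0
    · rw [show y = (-1 : K) • x from Subtype.ext (by
        rw [Submodule.coe_smul, neg_one_smul]; exact (neg_eq_of_add_eq_zero_right hs).symm)]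
      rw [show x + (-1 : K) • x = 0 by module, hL0 0 rfl, smulW]
      module
    obtain ⟨z, hz, z1, z2, z3⟩ := exists_avoid_three h2 (nz x hx) (nz y hy) (by
      obtain ⟨s, hs', h⟩ := nz (x + y) hs
      exact ⟨s, hs', by rwa [← addW x y s hs']⟩)
    let zz : W := ⟨z, hz⟩
    have a1 := add_nonperp y zz z2
    have a2 := add_nonperp x (y + zz) (by rw [Submodule.coe_add, map_add, hxy, zero_add]; exact z1)
    have a3 := add_nonperp (x + y) zz (by rw [addW x y z hz]; exact z3)
    rw [add_assoc, a2, a1, ← add_assoc] at a3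
    exact (add_right_cancel a3).symm
  refine ⟨hR0, fun φ hφ h => ?_, ⟨⟨L, addL⟩, smulW⟩, Lself, fun x hx => ?_, fun x φ hφ => ?_⟩
  · -- every element of the span of the functionals is a value of `L`
    suffices ∃ x : W, L x = φ by
      obtain ⟨x, rfl⟩ := this
      by_contra hne
      have hx : (x : V) ≠ 0 := fun h0 => hne (hL0 x h0)
      obtain ⟨a, ha, he'⟩ := Lne x hx
      obtain ⟨s, hs, -, hfs⟩ := nzW x x.2 hx
      have e := h s hs
      rw [he', LinearMap.smul_apply] at e
      exact smul_ne_zero ha hfs e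
    clear h
    induction hφ using Submodule.span_induction with
    | mem φ hφ =>
      obtain ⟨v, hv⟩ := hφ
      let x : W := ⟨v, mem_centres hv⟩
      obtain ⟨a, ha, he'⟩ := Lne x (hS.ne_left hv)
      obtain ⟨b, hb⟩ := hA v (f v) φ (hf v x.2 (hS.ne_left hv)) hv
      exact ⟨(b / a) • x, by rw [smulW, he', hb, smul_smul, div_mul_cancel₀ _ ha]⟩
    | zero => exact ⟨0, hL0 0 rfl⟩
    | add a b _ _ ha hb =>
      obtain ⟨x, rfl⟩ := ha; obtain ⟨y, rfl⟩ := hb
      exact ⟨x + y, addL x y⟩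
    | smul k a _ ha =>
      obtain ⟨x, rfl⟩ := ha
      exact ⟨k • x, smulW k x⟩
  · have hx' : (x : V) ≠ 0 := fun h => hx (Subtype.ext h)
    obtain ⟨a, ha, he'⟩ := Lne x hx'
    show R (x : V) (L x)
    rw [he']
    exact hS.smul_right (hf x x.2 hx') ha
  · obtain ⟨a, ha, he'⟩ := Lne x (hS.ne_left hφ)
    obtain ⟨b, hb⟩ := hA _ (f x) φ (hf x x.2 (hS.ne_left hφ)) hφ
    exact ⟨b / a, by show φ = (b / a) • L x; rw [he', hb, smul_smul, div_mul_cancel₀ _ ha]⟩

end CfsgLib.RootSubgroups.McLaughlin
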