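import Cfsg.Agent.Lib.RootSubgroups.McLaughlin.Sys

/-!
A connected system in which some centre has two independent functionals is of linear type.
-/

set_option autoImplicit false

namespace CfsgLib.RootSubgroups.McLaughlin

open Submodule

variable {K : Type*} [Field K] {V : Type*} [AddCommGroup V] [Module K V]
variable {R : V → Module.Dual K V → Prop}

/-- The span of the centres. -/
def centres (R : V → Module.Dual K V → Prop) : Submodule K V := span K {v | ∃ φ, R v φ}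

/-- The span of the functionals. -/
def axesSpan (R : V → Module.Dual K V → Prop) : Submodule K (Module.Dual K V) := span K {φ | ∃ v, R v φ}

theorem mem_centres {v : V} {φ : Module.Dual K V} (h : R v φ) : v ∈ centres R := subset_span ⟨φ, h⟩

theorem mem_axesSpan {v : V} {φ : Module.Dual K V} (h : R v φ) : φ ∈ axesSpan R := subset_span ⟨v, h⟩

namespace Sys

variable (hS : Sys R)
include hS

theorem swap {c d : V} {χ : Module.Dual K V} (hχ : χ ∈ hS.axes c) (hd : χ d = 0) (h : Adj R c d) :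
    χ ∈ hS.axes d := by
  rcases hχ with rfl | hχ
  · exact zero_mem _
  · obtain ⟨ψ, hψ, hψc⟩ := h.2
    exact hS.mem_axes (hS.comm hχ hψ hd hψc)

theorem axes_le {c d : V} {η : Module.Dual K V} (hη : η ∈ hS.axes c) (hd : η d ≠ 0) (h : Adj R c d) :
    hS.axes c ≤ span K {η} ⊔ hS.axes d := by
  intro a ha
  rw [show a = (a d / η d) • η + (a - (a d / η d) • η) from (add_sub_cancel _ _).symm]
  refine Submodule.add_mem_sup (smul_mem _ _ (mem_span_singleton_self η))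
    (hS.swap (sub_mem ha (smul_mem _ _ hη)) ?_ h)
  rw [LinearMap.sub_apply, LinearMap.smul_apply, smul_eq_mul, div_mul_cancel₀ _ hd, sub_self]

/-- The functionals attached to an adjacent pair. -/
def pairSpan (c d : V) : Submodule K (Module.Dual K V) := hS.axes c ⊔ hS.axes d

theorem pair_eq_of_shared {c d e : V} (hcd : Adj R c d) (hce : Adj R c e) {η : Module.Dual K V}
    (hη : η ∈ hS.axes d) (hη' : η ∈ hS.axes e) (hc : η c ≠ 0) : hS.pairSpan c d = hS.pairSpan c e := by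
  have key : ∀ d e, Adj R c d → η ∈ hS.axes d → η ∈ hS.axes e → hS.pairSpan c d ≤ hS.pairSpan c e := by
    intro d e hd h h'
    exact sup_le le_sup_left ((hS.axes_le h hc (adj_symm hd)).trans
      (sup_le ((span_singleton_le_iff_mem _ _).2 (le_sup_right (a := hS.axes c) h')) le_sup_left))
  exact le_antisymm (key d e hcd hη hη') (key e d hce hη' hη)

theorem pair_compare {c d f : V} (hcd : Adj R c d) (hcf : Adj R c f) {χ : Module.Dual K V}
    (hχ : χ ∈ hS.axes c) (hχd : χ d = 0) (hχf : χ f ≠ 0) : hS.pairSpan c d = hS.pairSpan c f := by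
  have main : ∀ d, Adj R c d → χ d = 0 → (∃ ξ, R f ξ ∧ ξ d ≠ 0) → hS.pairSpan c d = hS.pairSpan c f := by
    intro d hcd hχd hfd
    have hχ' := hS.swap hχ hχd hcd
    have hdf : Adj R d f := ⟨⟨χ, hS.of_mem_axes hχ' (fun h => hχf (by rw [h]; rfl)), hχf⟩, hfd⟩
    obtain ⟨ψ, hψ, hψc⟩ := hcd.2
    have hη : ψ - (ψ f / χ f) • χ ∈ hS.axes d := sub_mem (hS.mem_axes hψ) (smul_mem _ _ hχ')
    refine hS.pair_eq_of_shared hcd hcf hη (hS.swap hη ?_ hdf) ?_
    · rw [LinearMap.sub_apply, LinearMap.smul_apply, smul_eq_mul, div_mul_cancel₀ _ hχf, sub_self]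
    · rw [LinearMap.sub_apply, LinearMap.smul_apply, hS.axes_self hχ, smul_zero, sub_zero]
      exact hψc
  by_cases hfd : ∃ ξ, R f ξ ∧ ξ d ≠ 0
  · exact main d hcd hχd hfd
  push Not at hfd
  obtain ⟨φ, hφ, hφd⟩ := hcd.1
  obtain ⟨ψ, hψ, hψc⟩ := hcd.2
  have hl := hS.line hψ hφ hφd 1
  rw [one_smul] at hl
  have hcd' : Adj R c (d + c) := ⟨⟨φ, hφ, by rwa [map_add, hS.self hφ, add_zero]⟩, _, hl, by
    simpa [hS.self hφ] using hψc⟩
  have heq : hS.pairSpan c d = hS.pairSpan c (d + c) := by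
    apply le_antisymm <;> refine sup_le le_sup_left ?_
    · refine (hS.axes_le (hS.mem_axes hψ) hψc (adj_symm hcd)).trans (sup_le ?_ le_sup_left)
      rw [span_singleton_le_iff_mem, show ψ = (ψ - (ψ c * 1 / φ d) • φ) + (ψ c * 1 / φ d) • φ by simp]
      exact add_mem (le_sup_right (a := hS.axes c) (hS.mem_axes hl))
        (le_sup_left (b := hS.axes (d + c)) (smul_mem _ _ (hS.mem_axes hφ)))
    · have hne : (ψ - (ψ c * 1 / φ d) • φ) c ≠ 0 := by simpa [hS.self hφ] using hψc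
      refine (hS.axes_le (hS.mem_axes hl) hne (adj_symm hcd')).trans (sup_le ?_ le_sup_left)
      rw [span_singleton_le_iff_mem]
      exact sub_mem (le_sup_right (a := hS.axes c) (hS.mem_axes hψ))
        (le_sup_left (b := hS.axes d) (smul_mem _ _ (hS.mem_axes hφ)))
  rw [heq]
  obtain ⟨ξ, hξ, hξc⟩ := hcf.2
  exact main (d + c) hcd' (by rw [map_add, hχd, hS.axes_self hχ, add_zero])
    ⟨ξ, hξ, by rwa [map_add, hfd ξ hξ, zero_add]⟩

end Sys

/-- A connected system is of linear type when some centre has two independent functionals. -/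
theorem linear_type (hS : Sys R)
    (hlink : ∀ v w, (∃ φ, R v φ) → (∃ ψ, R w ψ) → Linked R v w)
    (hB : ∃ v φ ψ, R v φ ∧ R v ψ ∧ ∀ a : K, ψ ≠ a • φ) :
    (∀ x ∈ centres R, (∀ φ ∈ axesSpan R, φ x = 0) → x = 0) ∧
    (∀ φ ∈ axesSpan R, (∀ x ∈ centres R, φ x = 0) → φ = 0) ∧
    ∀ v ∈ centres R, v ≠ 0 → ∀ φ ∈ axesSpan R, φ ≠ 0 → φ v = 0 → R v φ := by
  obtain ⟨v0, φ0, ψ0, hφ0, hψ0, hne⟩ := hB
  -- no centre has a one-dimensional space of functionals
  have hTwo : ∀ c, (∃ φ, R c φ) → ∀ η : Module.Dual K V, ¬ hS.axes c ≤ span K {η} := by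
    intro c hc
    have hl := hlink v0 c ⟨φ0, hφ0⟩ hc
    clear hc
    induction hl with
    | refl =>
      intro η hη
      obtain ⟨a, ha⟩ := mem_span_singleton.1 (hη (hS.mem_axes hφ0))
      obtain ⟨b, hb⟩ := mem_span_singleton.1 (hη (hS.mem_axes hψ0))
      rcases eq_or_ne a 0 with rfl | ha0
      · exact hS.ne_right hφ0 (by rw [← ha, zero_smul])
      · exact hne (b / a) (by rw [← ha, ← hb, smul_smul, div_mul_cancel₀ _ ha0])
    | @tail x y _ hadj ih =>
      intro η hη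
      obtain ⟨φ, hφ, hφy⟩ := hadj.1
      refine ih φ fun a ha => ?_
      have hμ : a - (a y / φ y) • φ ∈ hS.axes x := sub_mem ha (smul_mem _ _ (hS.mem_axes hφ))
      obtain ⟨t, ht⟩ := mem_span_singleton.1 (hη (hS.swap hμ
        (by simp [div_mul_cancel₀ _ hφy]) hadj))
      have hx0 := hS.axes_self hμ
      rw [← ht] at hx0
      obtain ⟨ψ, hψ, hψx⟩ := hadj.2
      obtain ⟨t', ht'⟩ := mem_span_singleton.1 (hη (hS.mem_axes hψ))
      have hηx : η x ≠ 0 := fun h => hψx (by rw [← ht', LinearMap.smul_apply, h, smul_zero])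
      rw [LinearMap.smul_apply, smul_eq_mul, mul_eq_zero, or_iff_left hηx] at hx0
      rw [hx0, zero_smul, eq_comm, sub_eq_zero] at ht
      rw [ht]
      exact smul_mem _ _ (mem_span_singleton_self φ)
  -- the span of a pair only depends on the first centre
  have hindep : ∀ c d f, Adj R c d → Adj R c f → hS.pairSpan c d = hS.pairSpan c f := by
    intro c d f hcd hcf
    obtain ⟨φ, hφ, hφd⟩ := hcd.1
    obtain ⟨μ, hμ, hμd, hμ0⟩ : ∃ μ ∈ hS.axes c, μ d = 0 ∧ μ ≠ 0 := by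
      obtain ⟨a, ha, ha'⟩ := SetLike.not_le_iff_exists.1 (hTwo c ⟨φ, hφ⟩ φ)
      refine ⟨a - (a d / φ d) • φ, sub_mem ha (smul_mem _ _ (hS.mem_axes hφ)),
        by simp [div_mul_cancel₀ _ hφd], fun h => ha' ?_⟩
      rw [sub_eq_zero.1 h]
      exact smul_mem _ _ (mem_span_singleton_self φ)
    by_cases hμf : μ f = 0
    · obtain ⟨g, ξ, hξ, hμg, hξc⟩ := hS.partner (hS.of_mem_axes hμ hμ0)
      have hcg : Adj R c g := ⟨⟨μ, hS.of_mem_axes hμ hμ0, hμg⟩, ξ, hξ, hξc⟩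
      rw [hS.pair_compare hcd hcg hμ hμd hμg, hS.pair_compare hcf hcg hμ hμf hμg]
    · exact hS.pair_compare hcd hcf hμ hμd hμf
  obtain ⟨d0, ψd, hd0, hd0', hd0''⟩ := hS.partner hφ0
  have hv0d0 : Adj R v0 d0 := ⟨⟨φ0, hφ0, hd0'⟩, ψd, hd0, hd0''⟩
  have hall : ∀ x, Linked R v0 x → ∀ y, Adj R x y → hS.pairSpan x y = hS.pairSpan v0 d0 := by
    intro x hx
    induction hx with
    | refl => exact fun y hy => hindep _ _ _ hy hv0d0
    | @tail z x _ hzx ih =>
      intro y hy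
      rw [hindep x y z hy (adj_symm hzx), ← ih x hzx]
      exact sup_comm _ _
  have hspan : axesSpan R ≤ hS.pairSpan v0 d0 := by
    refine span_le.2 ?_
    rintro φ ⟨v, hv⟩
    obtain ⟨w, ψ, hw, h1, h2⟩ := hS.partner hv
    rw [← hall v (hlink v0 v ⟨φ0, hφ0⟩ ⟨φ, hv⟩) w ⟨⟨φ, hv, h1⟩, ψ, hw, h2⟩]
    exact le_sup_left (b := hS.axes w) (hS.mem_axes hv)
  have hfull : ∀ c, (∃ φ, R c φ) → ∀ φ ∈ axesSpan R, φ c = 0 → φ ∈ hS.axes c := by
    rintro c ⟨χ, hχ⟩ φ hφ hφc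
    obtain ⟨w, ψ, hw, h1, h2⟩ := hS.partner hχ
    have hcw : Adj R c w := ⟨⟨χ, hχ, h1⟩, ψ, hw, h2⟩
    have hm := hspan hφ
    rw [← hall c (hlink v0 c ⟨φ0, hφ0⟩ ⟨χ, hχ⟩) w hcw] at hm
    have hm2 := sup_le le_sup_right (hS.axes_le (hS.mem_axes hw) h2 (adj_symm hcw)) hm
    obtain ⟨_, ha, b, hb, rfl⟩ := Submodule.mem_sup.1 hm2
    obtain ⟨t, rfl⟩ := mem_span_singleton.1 ha
    rw [LinearMap.add_apply, LinearMap.smul_apply, smul_eq_mul, hS.axes_self hb, add_zero, mul_eq_zero,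
      or_iff_left h2] at hφc
    rw [hφc, zero_smul, zero_add]
    exact hb
  have hcommon : ∀ c d, (∃ φ, R c φ) → (∃ ψ, R d ψ) → c + d ≠ 0 → ∃ φ, R (c + d) φ := by
    intro c d hc hd hcd
    obtain ⟨μ, hμ, hμ0, hμc, hμd⟩ : ∃ μ, μ ∈ axesSpan R ∧ μ ≠ 0 ∧ μ c = 0 ∧ μ d = 0 := by
      by_cases h1 : ∀ φ, R c φ → φ d = 0
      · obtain ⟨φ, hφ⟩ := hc
        exact ⟨φ, mem_axesSpan hφ, hS.ne_right hφ, hS.self hφ, h1 φ hφ⟩
      push Not at h1
      obtain ⟨φ, hφ, hφd⟩ := h1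
      obtain ⟨a, ha, ha'⟩ := SetLike.not_le_iff_exists.1 (hTwo c hc φ)
      have hμ : a - (a d / φ d) • φ ∈ hS.axes c := sub_mem ha (smul_mem _ _ (hS.mem_axes hφ))
      have hμ0 : a - (a d / φ d) • φ ≠ 0 := fun h => ha' (by
        rw [sub_eq_zero.1 h]
        exact smul_mem _ _ (mem_span_singleton_self φ))
      exact ⟨_, mem_axesSpan (hS.of_mem_axes hμ hμ0), hμ0, hS.axes_self hμ,
        by simp [div_mul_cancel₀ _ hφd]⟩
    exact ⟨μ, hS.add_left (hS.of_mem_axes (hfull c hc μ hμ hμc) hμ0)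
      (hS.of_mem_axes (hfull d hd μ hμ hμd) hμ0) hcd⟩
  have hpts : ∀ v ∈ centres R, v ≠ 0 → ∃ φ, R v φ := by
    intro v hv
    induction hv using Submodule.span_induction with
    | mem x hx => exact fun _ => hx
    | zero => exact fun h => absurd rfl h
    | add x y _ _ hx hy =>
      intro h
      rcases eq_or_ne x 0 with rfl | hx0
      · rw [zero_add] at h ⊢; exact hy h
      rcases eq_or_ne y 0 with rfl | hy0
      · rw [add_zero] at h ⊢; exact hx h
      exact hcommon x y (hx hx0) (hy hy0) h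
    | smul a x _ hx =>
      intro h
      rw [smul_ne_zero_iff] at h
      exact (hx h.2).imp fun φ hφ => hS.smul_left hφ h.1
  refine ⟨fun x hx h => ?_, fun φ hφ h => ?_, fun v hv hv0 φ hφ hφ0 hφv =>
    hS.of_mem_axes (hfull v (hpts v hv hv0) φ hφ hφv) hφ0⟩
  · by_contra hx0
    obtain ⟨χ, hχ⟩ := hpts x hx hx0
    obtain ⟨w, ψ, hw, -, h2⟩ := hS.partner hχ
    exact h2 (h ψ (mem_axesSpan hw))
  · by_contra hφ0'
    obtain ⟨w, ψ, hw, h1, -⟩ := hS.partner
      (hS.of_mem_axes (hfull v0 ⟨φ0, hφ0⟩ φ hφ (h v0 (mem_centres hφ0))) hφ0')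
    exact h1 (h w (mem_centres hw))

end CfsgLib.RootSubgroups.McLaughlin
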