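import Cfsg.Agent.Lib.Transvec.Symplectic

/-!
Generation of the special linear and symplectic groups by transvections, without coordinates.
-/

set_option autoImplicit false

namespace CfsgLib.RootSubgroups.McLaughlin

open Matrix CfsgLib.Transvec

variable {F : Type*} [Field F] {W : Type*} [AddCommGroup W] [Module F W]
variable {d : ℕ} (e : W ≃ₗ[F] (Fin d → F))

/-- Automorphisms as matrices in the coordinates of `e`. -/
noncomputable def toGLHom : (W ≃ₗ[F] W) →* GL (Fin d) F :=
  MonoidHom.toHomUnits
    { toFun := fun g => LinearMap.toMatrix' ((e.symm.trans (g.trans e)).toLinearMap)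
      map_one' := Matrix.ext_of_mulVec_single fun i => by rw [LinearMap.toMatrix'_mulVec, one_mulVec]; simp
      map_mul' := fun g h => Matrix.ext_of_mulVec_single fun i => by
        rw [← mulVec_mulVec, LinearMap.toMatrix'_mulVec, LinearMap.toMatrix'_mulVec, LinearMap.toMatrix'_mulVec]
        simp }

theorem toGLHom_mulVec (g : W ≃ₗ[F] W) (x : Fin d → F) :
    (toGLHom e g : Matrix (Fin d) (Fin d) F) *ᵥ x = e (g (e.symm x)) :=
  LinearMap.toMatrix'_mulVec _ _

theorem toGLHom_injective : Function.Injective (toGLHom e) := fun g h he => LinearEquiv.ext fun x => by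
  have := congrArg (fun m : GL (Fin d) F => (m : Matrix (Fin d) (Fin d) F) *ᵥ e x) he
  simpa [toGLHom_mulVec] using this

theorem toGLHom_det (g : W ≃ₗ[F] W) :
    (toGLHom e g : Matrix (Fin d) (Fin d) F).det = LinearMap.det (g : W →ₗ[F] W) := by
  rw [show (toGLHom e g : Matrix (Fin d) (Fin d) F) = LinearMap.toMatrix' ((e.symm.trans (g.trans e)).toLinearMap)
    from rfl, LinearMap.det_toMatrix', ← LinearMap.det_conj (g : W →ₗ[F] W) e]
  rfl

theorem dot_functional (φ x : Fin d → F) :
    ((dotProductBilin F F φ).comp e.toLinearMap) (e.symm x) = φ ⬝ᵥ x := by simp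

/-- A subgroup containing all transvections contains every automorphism of determinant one. -/
theorem mem_of_det_one [FiniteDimensional F W] {M : Subgroup (W ≃ₗ[F] W)}
    (hM : ∀ (v : W) (f : Module.Dual F W), f v = 0 → ∃ g ∈ M, ∀ x, g x = x + f x • v)
    {g : W ≃ₗ[F] W} (hg : LinearMap.det (g : W →ₗ[F] W) = 1) : g ∈ M := by
  let e := (Module.finBasis F W).equivFun
  have hle : Cfsg.Geo.specialLinear (Fin (Module.finrank F W)) F ≤ M.map (toGLHom e) :=
    specialLinear_le fun v φ hv => by
      obtain ⟨h, hh, hx⟩ := hM (e.symm v) ((dotProductBilin F F φ).comp e.toLinearMap)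
        (by rw [dot_functional, hv])
      refine ⟨h, hh, gl_ext fun x => ?_⟩
      rw [toGLHom_mulVec, hx, dot_functional, transv_mulVec hv]
      simp
  obtain ⟨h, hh, he⟩ := hle ((mem_specialLinear_iff _).2 ((toGLHom_det e g).trans hg))
  rwa [← toGLHom_injective e he]

/-- A subgroup containing all symplectic transvections contains every isometry. -/
theorem mem_of_isometry [FiniteDimensional F W] {B : LinearMap.BilinForm F W} (hB : B.IsAlt) (hnd : B.Nondegenerate)
    {M : Subgroup (W ≃ₗ[F] W)} (hM : ∀ (v : W) (a : F), ∃ g ∈ M, ∀ x, g x = x + (a * B x v) • v)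
    {g : W ≃ₗ[F] W} (hg : ∀ x y, B (g x) (g y) = B x y) : g ∈ M := by
  let e := (Module.finBasis F W).equivFun
  let f : (Fin (Module.finrank F W) → F) → (Fin (Module.finrank F W) → F) → F :=
    fun u v => B (e.symm u) (e.symm v)
  have hf : Cfsg.Geo.IsSymplecticForm f := by
    refine ⟨⟨fun x y v => ?_, fun c x v => ?_, fun v x y => ?_, fun c v x => ?_⟩, fun v w => ?_, fun v => ?_, ?_⟩
    · simp [f]
    · simp [f]
    · simp [f]
    · simp [f]
    · exact (LinearMap.IsAlt.neg hB (e.symm w) (e.symm v)).symm
    · exact hB (e.symm v)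
    · intro v hv
      constructor
      all_goals by_contra hcon
      all_goals push Not at hcon
      all_goals refine hv (e.symm.map_eq_zero_iff.1 ?_)
      all_goals first
        | exact hnd.1 _ fun w => by simpa [f] using hcon (e w)
        | exact hnd.2 _ fun w => by simpa [f] using hcon (e w)
  have hfull : ∀ v, Full f (M.map (toGLHom e)) v := by
    intro v c
    obtain ⟨h, hh, hx⟩ := hM (e.symm v) c
    refine ⟨h, hh, gl_ext fun x => ?_⟩
    rw [toGLHom_mulVec, hx, sT_mulVec hf]
    simp [f]
  obtain ⟨h, hh, he⟩ := iso_mem_of_full hf hfull (g := toGLHom e g) (fun u v => by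
    simp only [f, toGLHom_mulVec, LinearEquiv.symm_apply_apply, hg])
  rwa [← toGLHom_injective e he]

end CfsgLib.RootSubgroups.McLaughlin
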