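import Cfsg.Agent.Lib.RootSubgroups.McLaughlin.Group
import Cfsg.Agent.Lib.RootSubgroups.McLaughlin.Generate

/-!
Decomposition of a linear group over a prime field generated by transvections.
-/

set_option autoImplicit false

namespace CfsgLib.RootSubgroups.McLaughlin

open Submodule

variable {p : ℕ} [Fact p.Prime] {V : Type*} [AddCommGroup V] [Module (ZMod p) V] [Finite V]
variable {H : Subgroup (V ≃ₗ[ZMod p] V)}

/-- Representatives of the components, and one extra vector without transvections. -/
theorem exists_representatives : ∃ (r : ℕ) (c : Fin (r + 1) → V),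
    (∀ i j v φ, Tv H v φ → Linked (Tv H) (c i) v → Linked (Tv H) (c j) v → i = j) ∧
    ∀ v φ, Tv H v φ → ∃ i, Linked (Tv H) (c i) v := by
  classical
  let P := {v : V // ∃ φ, Tv H v φ}
  let st : Setoid P := ⟨fun a b => Linked (Tv H) a.1 b.1, ⟨fun a => .refl, linked_symm, Relation.ReflTransGen.trans⟩⟩
  haveI : Fintype (Quotient st) := Fintype.ofFinite _
  let eq := Fintype.equivFin (Quotient st)
  refine ⟨Fintype.card (Quotient st), Fin.snoc (fun i => ((eq.symm i).out : P).1) 0, ?_, ?_⟩
  · have hlast : ∀ v φ, Tv H v φ → ¬ Linked (Tv H) 0 v := fun v φ hv hl => by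
      obtain ⟨ψ, hψ⟩ := linked_pt (linked_symm hl) ⟨φ, hv⟩
      exact hψ.1 rfl
    intro i j v φ hv hi hj
    induction i using Fin.lastCases with
    | last => rw [Fin.snoc_last] at hi; exact absurd hi (hlast v φ hv)
    | cast i =>
      induction j using Fin.lastCases with
      | last => rw [Fin.snoc_last] at hj; exact absurd hj (hlast v φ hv)
      | cast j =>
        rw [Fin.snoc_castSucc] at hi hj
        have h : (⟦(eq.symm i).out⟧ : Quotient st) = ⟦(eq.symm j).out⟧ :=
          Quotient.sound (show Linked (Tv H) _ _ from hi.trans (linked_symm hj))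
        rw [Quotient.out_eq, Quotient.out_eq] at h
        rw [eq.symm.injective h]
  · intro v φ hv
    refine ⟨(eq ⟦⟨v, φ, hv⟩⟧).castSucc, ?_⟩
    rw [Fin.snoc_castSucc, Equiv.symm_apply_apply]
    exact Quotient.mk_out (s := st) (⟨v, φ, hv⟩ : P)

/-- The vectors killed by all functionals of transvections. -/
def fixedPart (H : Subgroup (V ≃ₗ[ZMod p] V)) : Submodule (ZMod p) V where
  carrier := {x | ∀ v φ, Tv H v φ → φ x = 0}
  zero_mem' v φ _ := map_zero φ
  add_mem' ha hb v φ h := by rw [map_add, ha v φ h, hb v φ h, add_zero]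
  smul_mem' k x hx v φ h := by rw [map_smul, hx v φ h, smul_zero]

section

variable (hp : Odd p) (hOp : Cfsg.pCore p ↥H = ⊥) (hgen : GenByTv H)
include hp hOp hgen

theorem exists_restrict (c : V) :
    (∀ f : Module.Dual (ZMod p) (compW H c), ∃ φ ∈ compA H c, ∀ w : compW H c, φ (w : V) = f w) ∧
    ∀ x : V, ∃ w ∈ compW H c, ∀ χ ∈ compA H c, χ x = χ w := by
  obtain ⟨h1, h2, -⟩ := component_structure hp hOp hgen c
  haveI : Module.Finite (ZMod p) V := inferInstance
  let res : compA H c →ₗ[ZMod p] Module.Dual (ZMod p) (compW H c) :=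
    (compW H c).subtype.dualMap ∘ₗ (compA H c).subtype
  let ev : V →ₗ[ZMod p] Module.Dual (ZMod p) (compA H c) :=
    (compA H c).subtype.dualMap ∘ₗ Module.Dual.eval (ZMod p) V
  have hres : Function.Injective res := by
    rw [← LinearMap.ker_eq_bot, LinearMap.ker_eq_bot']
    intro φ hφ
    exact Subtype.ext (h2 φ φ.2 fun x hx => LinearMap.congr_fun hφ ⟨x, hx⟩)
  have hev : Function.Injective (ev ∘ₗ (compW H c).subtype) := by
    rw [← LinearMap.ker_eq_bot, LinearMap.ker_eq_bot']
    intro x hx
    exact Subtype.ext (h1 x x.2 fun φ hφ => LinearMap.congr_fun hx ⟨φ, hφ⟩)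
  have l1 := LinearMap.finrank_le_finrank_of_injective hres
  have l2 := LinearMap.finrank_le_finrank_of_injective hev
  rw [Subspace.dual_finrank_eq] at l1 l2
  constructor
  · intro f
    obtain ⟨φ, hφ⟩ := (LinearMap.injective_iff_surjective_of_finrank_eq_finrank
      (by rw [Subspace.dual_finrank_eq]; omega)).1 hres f
    exact ⟨φ, φ.2, fun w => LinearMap.congr_fun hφ w⟩
  · intro x
    obtain ⟨w, hw⟩ := (LinearMap.injective_iff_surjective_of_finrank_eq_finrank
      (by rw [Subspace.dual_finrank_eq]; omega)).1 hev (ev x)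
    exact ⟨w, w.2, fun χ hχ => (LinearMap.congr_fun hw ⟨χ, hχ⟩).symm⟩

omit hgen in
theorem fix_of_gen {c : V} {g : V ≃ₗ[ZMod p] V} (hg : g ∈ compGroup H c) :
    (∀ x ∈ fixedPart H, g x = x) ∧
    ∀ d, (∀ v φ, compRel H c v φ → ¬ Linked (Tv H) d v) → ∀ x ∈ compW H d, g x = x := by
  refine stable_of_gens (le_refl (compGroup H c)) (fun g => (∀ x ∈ fixedPart H, g x = x) ∧
    ∀ d, (∀ v φ, compRel H c v φ → ¬ Linked (Tv H) d v) → ∀ x ∈ compW H d, g x = x) ?_ ?_ ?_ hg
  · exact ⟨fun x _ => by simp, fun d _ x _ => by simp⟩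
  · rintro a b ⟨ha, ha'⟩ ⟨hb, hb'⟩
    exact ⟨fun x hx => by rw [LinearEquiv.mul_apply, hb x hx, ha x hx],
      fun d hd x hx => by rw [LinearEquiv.mul_apply, hb' d hd x hx, ha' d hd x hx]⟩
  · rintro g ⟨-, v, φ, hv, hgx⟩
    exact ⟨fun x hx => by rw [hgx, hx v φ hv.1, zero_smul, add_zero],
      fun d hd x hx => by rw [hgx, (perp_of_not_linked hp hOp hv.1 (hd v φ hv)).1 x hx, zero_smul, add_zero]⟩

/-- The restriction of a component group to its subspace. -/
noncomputable def compRestrict (c : V) : compGroup H c →* (compW H c ≃ₗ[ZMod p] compW H c) where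
  toFun g :=
    { toFun := fun x => ⟨(g : V ≃ₗ[ZMod p] V) x, (move_compW hp hOp hgen c (compGroup_le c g.2)).1 x x.2⟩
      map_add' := fun x y => Subtype.ext (by simp)
      map_smul' := fun k x => Subtype.ext (by simp)
      invFun := fun x => ⟨((g⁻¹ : compGroup H c) : V ≃ₗ[ZMod p] V) x,
        (move_compW hp hOp hgen c (compGroup_le c (g⁻¹).2)).1 x x.2⟩
      left_inv := fun x => Subtype.ext (by simp [LinearEquiv.coe_inv])
      right_inv := fun x => Subtype.ext (by simp [LinearEquiv.coe_inv]) }
  map_one' := LinearEquiv.ext fun x => Subtype.ext (by simp)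
  map_mul' g h := LinearEquiv.ext fun x => Subtype.ext (by simp)

theorem compRestrict_apply (c : V) (g : compGroup H c) (x : compW H c) :
    ((compRestrict hp hOp hgen c g x : compW H c) : V) = (g : V ≃ₗ[ZMod p] V) (x : V) := rfl

theorem mem_range_transv {c : V} {v : compW H c} {φ : Module.Dual (ZMod p) V}
    (h : (v : V) = 0 ∨ φ = 0 ∨ compRel H c v φ) :
    ∃ g ∈ (compRestrict hp hOp hgen c).range, ∀ x : compW H c, g x = x + φ (x : V) • v := by
  rcases h with h | h | h
  · exact ⟨1, one_mem _, fun x => Subtype.ext (by simp [h])⟩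
  · exact ⟨1, one_mem _, fun x => Subtype.ext (by simp [h])⟩
  · obtain ⟨g, hg, hgx⟩ := h.1.2.2.2
    exact ⟨_, ⟨⟨g, mem_compGroup h hgx⟩, rfl⟩, fun x => Subtype.ext (by rw [compRestrict_apply]; simp [hgx])⟩

/-- A component group induces the whole special linear or symplectic group. -/
theorem compRestrict_range (c : V) :
    ((compRestrict hp hOp hgen c).range : Set (compW H c ≃ₗ[ZMod p] compW H c)) =
        {f : compW H c ≃ₗ[ZMod p] compW H c | LinearMap.det (f : compW H c →ₗ[ZMod p] compW H c) = 1} ∨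
      ∃ B : LinearMap.BilinForm (ZMod p) (compW H c), B.IsAlt ∧ B.Nondegenerate ∧
        ((compRestrict hp hOp hgen c).range : Set (compW H c ≃ₗ[ZMod p] compW H c)) =
          {f | ∀ x y, B (f x) (f y) = B x y} := by
  obtain ⟨h1, h2, hlin | ⟨L, hLself, hLR, hLu⟩⟩ := component_structure hp hOp hgen c
  · refine Or.inl (Set.ext fun f => ⟨?_, fun hf => ?_⟩)
    · rintro ⟨⟨g, hg⟩, rfl⟩
      show LinearMap.det ((compRestrict hp hOp hgen c ⟨g, hg⟩ : compW H c ≃ₗ[ZMod p] compW H c) :
        compW H c →ₗ[ZMod p] compW H c) = 1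
      let χ : compGroup H c →* (ZMod p)ˣ := LinearEquiv.det.comp (compRestrict hp hOp hgen c)
      have hχ : ∀ g, χ g = 1 := by
        rintro ⟨g, hg⟩
        induction hg using Subgroup.closure_induction with
        | mem g hg =>
          have hmem := hg
          obtain ⟨-, v, φ, hv, hgx⟩ := hg
          let vv : compW H c := ⟨v, mem_centres hv⟩
          have hfv : (φ ∘ₗ (compW H c).subtype) vv = 0 := hv.1.2.2.1
          have e : compRestrict hp hOp hgen c ⟨g, Subgroup.subset_closure hmem⟩ = LinearEquiv.transvection hfv :=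
            LinearEquiv.ext fun x => Subtype.ext (by
              rw [compRestrict_apply, LinearEquiv.transvection.apply]
              simp [hgx, vv])
          show LinearEquiv.det _ = 1
          rw [e]
          exact LinearEquiv.transvection.det_eq_one _
        | one => exact map_one χ
        | mul a b ha hb e1 e2 =>
          show χ (⟨a, ha⟩ * ⟨b, hb⟩) = 1
          rw [map_mul, e1, e2, one_mul]
        | inv a ha e1 =>
          show χ (⟨a, ha⟩)⁻¹ = 1
          rw [map_inv, e1, inv_one]
      have := congrArg Units.val (hχ ⟨g, hg⟩)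
      rwa [MonoidHom.comp_apply, LinearEquiv.coe_det, Units.val_one] at this
    · refine mem_of_det_one (fun v f hf => ?_) hf
      obtain ⟨φ, hφ, hφf⟩ := (exists_restrict hp hOp hgen c).1 f
      have hh : (v : V) = 0 ∨ φ = 0 ∨ compRel H c v φ := by
        by_cases hv : (v : V) = 0
        · exact Or.inl hv
        by_cases h0 : φ = 0
        · exact Or.inr (Or.inl h0)
        exact Or.inr (Or.inr (hlin v v.2 hv φ hφ h0 (by rw [hφf, hf])))
      obtain ⟨g, hg, hgx⟩ := mem_range_transv hp hOp hgen hh
      exact ⟨g, hg, fun x => by rw [hgx, hφf]⟩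
  · let B : LinearMap.BilinForm (ZMod p) (compW H c) := (compW H c).subtype.dualMap ∘ₗ L
    have hBa : ∀ x y, B x y = L x (y : V) := fun x y => rfl
    have halt : B.IsAlt := fun x => (hBa x x).trans (hLself x)
    have hskew : ∀ x y, B x y = -B y x := fun x y => (LinearMap.IsAlt.neg halt y x).symm
    have hleft : ∀ x, (∀ y, B x y = 0) → x = 0 := by
      intro x hx
      by_contra hne
      have hr := hLR x hne
      exact hr.1.2.1 (h2 _ (mem_axesSpan hr) fun y hy => (hBa x ⟨y, hy⟩).symm.trans (hx _))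
    refine Or.inr ⟨B, halt, ⟨hleft, fun y hy => hleft y fun x => by rw [hskew, hy x, neg_zero]⟩,
      Set.ext fun f => ⟨?_, fun hf => ?_⟩⟩
    · rintro ⟨⟨g, hg⟩, rfl⟩
      induction hg using Subgroup.closure_induction with
      | mem g hg =>
        have hmem := hg
        obtain ⟨-, v, φ, hv, hgx⟩ := hg
        let vv : compW H c := ⟨v, mem_centres hv⟩
        obtain ⟨a, ha⟩ := hLu vv φ hv
        intro x y
        have e : ∀ z : compW H c, compRestrict hp hOp hgen c ⟨g, Subgroup.subset_closure hmem⟩ z =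
            z + (a * B vv z) • vv := fun z => Subtype.ext (by
          rw [compRestrict_apply, hgx, ha]
          simp [hBa, vv])
        rw [e, e]
        simp only [map_add, map_smul, LinearMap.add_apply, LinearMap.smul_apply, smul_eq_mul, halt vv, mul_zero,
          add_zero, hskew x vv]
        ring
      | one =>
        intro x y
        rw [show (⟨1, one_mem _⟩ : compGroup H c) = 1 from rfl, map_one]
        simp
      | mul a b ha hb e1 e2 =>
        intro x y
        rw [show (⟨a * b, mul_mem ha hb⟩ : compGroup H c) = ⟨a, ha⟩ * ⟨b, hb⟩ from rfl, map_mul,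
          LinearEquiv.mul_apply, LinearEquiv.mul_apply, e1, e2]
      | inv a ha e1 =>
        intro x y
        rw [show (⟨a⁻¹, inv_mem ha⟩ : compGroup H c) = (⟨a, ha⟩ : compGroup H c)⁻¹ from rfl, map_inv]
        conv_rhs => rw [← LinearEquiv.apply_symm_apply (compRestrict hp hOp hgen c ⟨a, ha⟩) x,
          ← LinearEquiv.apply_symm_apply (compRestrict hp hOp hgen c ⟨a, ha⟩) y, e1]
        rfl
    · refine mem_of_isometry halt ⟨hleft, fun y hy => hleft y fun x => by rw [hskew, hy x, neg_zero]⟩
        (fun v a => ?_) hf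
      have hh : (v : V) = 0 ∨ (-a) • L v = 0 ∨ compRel H c v ((-a) • L v) := by
        by_cases hv : v = 0
        · exact Or.inl (by rw [hv]; rfl)
        by_cases ha : a = 0
        · exact Or.inr (Or.inl (by rw [ha, neg_zero, zero_smul]))
        exact Or.inr (Or.inr ⟨(sys hp hOp).smul_right (hLR v hv).1 (neg_ne_zero.2 ha), (hLR v hv).2⟩)
      obtain ⟨g, hg, hgx⟩ := mem_range_transv hp hOp hgen hh
      exact ⟨g, hg, fun x => by rw [hgx, hskew x v, hBa, LinearMap.smul_apply, smul_eq_mul, neg_mul, mul_neg]⟩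

end

end CfsgLib.RootSubgroups.McLaughlin
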