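import Cfsg.Agent.Lib.RootSubgroups.McLaughlin.CaseA
import Cfsg.Agent.Lib.Invol.BaerSuzuki
import Cfsg.Prelude.Def_Solvable

/-!
The transvections of a linear group over a prime field of odd order without normal `p`-subgroups.
-/

set_option autoImplicit false

namespace CfsgLib.RootSubgroups.McLaughlin

open Submodule

variable {p : ℕ} [Fact p.Prime] {V : Type*} [AddCommGroup V] [Module (ZMod p) V]

/-- `H` contains the transvection with centre `v` and functional `φ`. -/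
def Tv (H : Subgroup (V ≃ₗ[ZMod p] V)) (v : V) (φ : Module.Dual (ZMod p) V) : Prop :=
  v ≠ 0 ∧ φ ≠ 0 ∧ φ v = 0 ∧ ∃ g ∈ H, ∀ x, g x = x + φ x • v

theorem two_ne_zero_zmod (hp : Odd p) : (2 : ZMod p) ≠ 0 := by
  intro h
  have h' : ((2 : ℕ) : ZMod p) = 0 := by exact_mod_cast h
  rw [ZMod.natCast_eq_zero_iff] at h'
  have := (Nat.prime_dvd_prime_iff_eq (Fact.out : p.Prime) Nat.prime_two).1 h'
  subst this
  exact absurd hp (by decide)

theorem pow_transv {g : V ≃ₗ[ZMod p] V} {v : V} {φ : Module.Dual (ZMod p) V} (hφ : φ v = 0)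
    (hg : ∀ x, g x = x + φ x • v) (n : ℕ) (x : V) : (g ^ n) x = x + ((n : ZMod p) * φ x) • v := by
  induction n with
  | zero => simp
  | succ n ih =>
    rw [pow_succ', LinearEquiv.mul_apply, ih, hg, map_add, map_smul, hφ, smul_zero, add_zero, Nat.cast_succ]
    module

theorem choose_two_cast (hp : Odd p) : ((p.choose 2 : ℕ) : ZMod p) = 0 := by
  rw [ZMod.natCast_eq_zero_iff]
  obtain ⟨k, hk⟩ := hp
  have h2 := (Fact.out : p.Prime).two_le
  exact (Fact.out : p.Prime).dvd_choose_self (by omega) (by omega)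

theorem choose_two_succ (n : ℕ) : (n + 1).choose 2 = n + n.choose 2 := by
  rw [Nat.choose_succ_succ' n 1, Nat.choose_one_right]

variable {H : Subgroup (V ≃ₗ[ZMod p] V)}

theorem scalar_mem {v : V} {φ : Module.Dual (ZMod p) V} (h : Tv H v φ) (a : ZMod p) :
    ∃ g ∈ H, ∀ x, g x = x + (a * φ x) • v := by
  obtain ⟨g, hg, hgx⟩ := h.2.2.2
  refine ⟨g ^ a.val, pow_mem hg _, fun x => ?_⟩
  rw [pow_transv h.2.2.1 hgx, ZMod.natCast_zmod_val]

/-- If two transvections do not form a rank one pair then they generate a `p`-group. -/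
theorem pow_eq_one_of_not_adj [Finite V] (hp : Odd p) {v v' : V} {φ φ' : Module.Dual (ZMod p) V} (hv : φ v = 0)
    (hv' : φ' v' = 0) (h : φ v' = 0) {g g' : V ≃ₗ[ZMod p] V} (hg : ∀ y, g y = y + φ y • v)
    (hg' : ∀ y, g' y = y + φ' y • v') {x : V ≃ₗ[ZMod p] V}
    (hx : x ∈ Subgroup.closure ({g, g'} : Set (V ≃ₗ[ZMod p] V))) : x ^ p = 1 := by
  let P : (V ≃ₗ[ZMod p] V) → Prop := fun x =>
    ∃ a b c : ZMod p, ∀ y, x y = y + (a * φ y) • v + (b * φ' y) • v' + (c * φ y) • v'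
  have hPow : ∀ x, P x → ∀ n : ℕ, ∃ a b c : ZMod p, (∀ y, (x ^ n) y = y + ((n : ZMod p) * (a * φ y)) • v +
      ((n : ZMod p) * (b * φ' y)) • v' +
      (((n : ZMod p) * c + (n.choose 2 : ℕ) * (a * b * φ' v)) * φ y) • v') := by
    rintro x ⟨a, b, c, hx⟩ n
    refine ⟨a, b, c, fun y => ?_⟩
    induction n with
    | zero => simp
    | succ n ih =>
      rw [pow_succ', LinearEquiv.mul_apply, ih, hx]
      simp only [map_add, map_smul, smul_eq_mul, hv, hv', h, mul_zero, add_zero, Nat.cast_succ,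
        choose_two_succ, Nat.cast_add]
      module
  have hp1 : ∀ x, P x → x ^ p = 1 := fun x hx => LinearEquiv.ext fun y => by
    obtain ⟨a, b, c, he⟩ := hPow x hx p
    simp [he y, choose_two_cast hp]
  refine hp1 x ?_
  have hmul : ∀ x y, P x → P y → P (x * y) := by
    rintro x y ⟨a, b, c, hx⟩ ⟨a', b', c', hy⟩
    refine ⟨a + a', b + b', c + c' + b * a' * φ' v, fun z => ?_⟩
    rw [LinearEquiv.mul_apply, hy, hx]
    simp only [map_add, map_smul, smul_eq_mul, hv, hv', h, mul_zero, add_zero]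
    module
  have hone : P 1 := ⟨0, 0, 0, fun y => by simp⟩
  induction hx using Subgroup.closure_induction with
  | mem x hx =>
    rcases hx with rfl | rfl
    · exact ⟨1, 0, 0, fun y => by simp [hg y]⟩
    · exact ⟨0, 1, 0, fun y => by simp [hg' y]⟩
  | one => exact hone
  | mul x y _ _ hx hy => exact hmul x y hx hy
  | inv x _ hx =>
    have hpow : ∀ n : ℕ, P (x ^ n) := fun n => by
      induction n with
      | zero => simpa using hone
      | succ n ih => rw [pow_succ]; exact hmul _ _ ih hx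
    have : x⁻¹ = x ^ (p - 1) := by
      rw [inv_eq_iff_mul_eq_one, ← pow_succ', Nat.sub_add_cancel (Fact.out : p.Prime).one_le, hp1 x hx]
    rw [this]
    exact hpow _

theorem exists_partner [Finite V] (hp : Odd p) (hOp : Cfsg.pCore p ↥H = ⊥) {v : V}
    {φ : Module.Dual (ZMod p) V} (h : Tv H v φ) : ∃ w ψ, Tv H w ψ ∧ φ w ≠ 0 ∧ ψ v ≠ 0 := by
  by_contra hcon
  push Not at hcon
  obtain ⟨g, hg, hgx⟩ := h.2.2.2
  haveI : Finite (V ≃ₗ[ZMod p] V) := Finite.of_injective _ DFunLike.coe_injective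
  let g' : H := ⟨g, hg⟩
  have hX : IsPGroup p (Subgroup.zpowers g') := by
    rw [IsPGroup.iff_card] at *
    have hgp : g' ^ p = 1 := Subtype.ext (LinearEquiv.ext fun x => by
      simp [g', pow_transv h.2.2.1 hgx])
    rcases (Nat.dvd_prime (Fact.out : p.Prime)).1 (orderOf_dvd_of_pow_eq_one hgp) with e | e
    · exact ⟨0, by rw [Nat.card_zpowers, e, pow_zero]⟩
    · exact ⟨1, by rw [Nat.card_zpowers, e, pow_one]⟩
  obtain ⟨N, hN, hNp, hle⟩ := CfsgLib.Invol.baer_suzuki (Subgroup.zpowers g') hX fun k x => by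
    have hψ : Tv H ((k : V ≃ₗ[ZMod p] V) v) (φ ∘ₗ ((k : V ≃ₗ[ZMod p] V).symm : V →ₗ[ZMod p] V)) := by
      refine ⟨fun e => h.1 ((k : V ≃ₗ[ZMod p] V).map_eq_zero_iff.1 e), fun e => h.2.1 (LinearMap.ext fun y => ?_),
        by simp [h.2.2.1], (k : V ≃ₗ[ZMod p] V) * g * (k : V ≃ₗ[ZMod p] V)⁻¹,
        mul_mem (mul_mem k.2 hg) (inv_mem k.2), fun y => ?_⟩
      · simpa using congrArg (fun f : Module.Dual (ZMod p) V => f ((k : V ≃ₗ[ZMod p] V) y)) e
      · rw [LinearEquiv.mul_apply, LinearEquiv.mul_apply, hgx, map_add, map_smul]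
        simp [LinearEquiv.coe_inv]
    obtain ⟨k', hk', hkx⟩ := hψ.2.2.2
    have hk'eq : k' = ((k * g' * k⁻¹ : H) : V ≃ₗ[ZMod p] V) := LinearEquiv.ext fun y => by
      rw [hkx]
      simp [g', hgx, LinearEquiv.coe_inv, map_add, map_smul]
    have hxg : ((x : H) : V ≃ₗ[ZMod p] V) ∈ Subgroup.closure ({g, k'} : Set (V ≃ₗ[ZMod p] V)) := by
      have hle2 : (Subgroup.zpowers g' ⊔ (Subgroup.zpowers g').map (MulAut.conj k).toMonoidHom).map H.subtype ≤
          Subgroup.closure {g, k'} := by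
        rw [Subgroup.map_sup, Subgroup.map_map, MonoidHom.map_zpowers, MonoidHom.map_zpowers, sup_le_iff,
          Subgroup.zpowers_le, Subgroup.zpowers_le]
        refine ⟨Subgroup.subset_closure (Or.inl rfl), Subgroup.subset_closure (Or.inr ?_)⟩
        exact hk'eq.symm
      exact hle2 (Subgroup.mem_map_of_mem _ x.2)
    suffices key : ((x : H) : V ≃ₗ[ZMod p] V) ^ p = 1 by
      refine ⟨1, Subtype.ext (Subtype.ext ?_)⟩
      rw [pow_one, SubmonoidClass.coe_pow, SubmonoidClass.coe_pow]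
      exact key
    by_cases hc : φ ((k : V ≃ₗ[ZMod p] V) v) = 0
    · exact pow_eq_one_of_not_adj hp h.2.2.1 hψ.2.2.1 hc hgx hkx hxg
    · have := hcon _ _ hψ hc
      rw [Set.pair_comm] at hxg
      exact pow_eq_one_of_not_adj hp hψ.2.2.1 h.2.2.1 this hkx hgx hxg
  have hle' : N ≤ Cfsg.pCore p ↥H := le_sSup ⟨hN, hNp⟩
  have hone := (hle.trans hle') (Subgroup.mem_zpowers g')
  rw [hOp, Subgroup.mem_bot] at hone
  have hone' : g = 1 := congrArg Subtype.val hone
  refine h.2.1 (LinearMap.ext fun x => ?_)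
  have e := hgx x
  rw [hone', LinearEquiv.coe_one, id, left_eq_add, smul_eq_zero] at e
  exact e.resolve_right h.1

theorem sys [Finite V] (hp : Odd p) (hOp : Cfsg.pCore p ↥H = ⊥) : Sys (Tv H) where
  ne_left h := h.1
  ne_right h := h.2.1
  self h := h.2.2.1
  smul_left {v φ a} h ha := by
    obtain ⟨g, hg, hgx⟩ := scalar_mem h a
    exact ⟨smul_ne_zero ha h.1, h.2.1, by rw [map_smul, h.2.2.1, smul_zero], g, hg,
      fun x => by rw [hgx, smul_smul, mul_comm]⟩
  smul_right {v φ a} h ha := by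
    obtain ⟨g, hg, hgx⟩ := scalar_mem h a
    exact ⟨h.1, smul_ne_zero ha h.2.1, by simp [h.2.2.1], g, hg, fun x => by simp [hgx]⟩
  add_left {v w φ} h h' hne := by
    obtain ⟨g, hg, hgx⟩ := h.2.2.2
    obtain ⟨g', hg', hgx'⟩ := h'.2.2.2
    refine ⟨hne, h.2.1, by rw [map_add, h.2.2.1, h'.2.2.1, add_zero], g * g', mul_mem hg hg', fun x => ?_⟩
    rw [LinearEquiv.mul_apply, hgx', hgx]
    simp only [map_add, map_smul, h'.2.2.1, smul_zero, add_zero]
    module
  add_right {v φ ψ} h h' hne := by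
    obtain ⟨g, hg, hgx⟩ := h.2.2.2
    obtain ⟨g', hg', hgx'⟩ := h'.2.2.2
    refine ⟨h.1, hne, by simp [h.2.2.1, h'.2.2.1], g * g', mul_mem hg hg', fun x => ?_⟩
    rw [LinearEquiv.mul_apply, hgx', hgx]
    simp only [map_add, map_smul, h.2.2.1, smul_zero, add_zero, LinearMap.add_apply]
    module
  conj {v w φ ψ} h h' := by
    obtain ⟨g, hg, hgx⟩ := h.2.2.2
    obtain ⟨g', hg', hgx'⟩ := h'.2.2.2
    have hinv : ∀ x, g'⁻¹ x = x - ψ x • w := fun x => by
      apply g'.injective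
      rw [show g' (g'⁻¹ x) = x by simp [LinearEquiv.coe_inv], hgx', map_sub, map_smul, h'.2.2.1, smul_zero, sub_zero]
      module
    refine ⟨fun e => h.1 (g'.map_eq_zero_iff.1 ((hgx' v).trans e)), fun e => ?_, ?_,
      g' * g * g'⁻¹, mul_mem (mul_mem hg' hg) (inv_mem hg'), fun x => ?_⟩
    · refine h.2.1 (LinearMap.ext fun x => ?_)
      have e' := congrArg (fun f : Module.Dual (ZMod p) V => f (x + ψ x • w)) e
      simpa [h'.2.2.1, mul_comm] using e'
    · simp only [LinearMap.sub_apply, LinearMap.smul_apply, map_add, map_smul, smul_eq_mul, h.2.2.1, h'.2.2.1]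
      ring
    · rw [LinearEquiv.mul_apply, LinearEquiv.mul_apply, hinv, hgx, hgx']
      simp only [map_add, map_sub, map_smul, smul_eq_mul, h'.2.2.1, LinearMap.sub_apply, LinearMap.smul_apply]
      module
  partner h := exists_partner hp hOp h

/-- The transvections of the component of `c`. -/
def compRel (H : Subgroup (V ≃ₗ[ZMod p] V)) (c : V) (v : V) (φ : Module.Dual (ZMod p) V) : Prop :=
  Tv H v φ ∧ Linked (Tv H) c v

/-- The group of a component. -/
def compGroup (H : Subgroup (V ≃ₗ[ZMod p] V)) (c : V) : Subgroup (V ≃ₗ[ZMod p] V) :=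
  Subgroup.closure {g | g ∈ H ∧ ∃ v φ, compRel H c v φ ∧ ∀ x, g x = x + φ x • v}

theorem compGroup_le (c : V) : compGroup H c ≤ H := (Subgroup.closure_le _).2 fun _ hg => hg.1

theorem mem_compGroup {c v : V} {φ : Module.Dual (ZMod p) V} (h : compRel H c v φ) {g : V ≃ₗ[ZMod p] V}
    (hg : ∀ x, g x = x + φ x • v) : g ∈ compGroup H c := by
  obtain ⟨g', hg', hgx'⟩ := h.1.2.2.2
  obtain rfl : g = g' := LinearEquiv.ext fun x => (hg x).trans (hgx' x).symm
  exact Subgroup.subset_closure ⟨hg', v, φ, h, hgx'⟩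

/-- `H` is generated by its transvections. -/
def GenByTv (H : Subgroup (V ≃ₗ[ZMod p] V)) : Prop :=
  H ≤ Subgroup.closure {g | g ∈ H ∧ ∃ v φ, Tv H v φ ∧ ∀ x, g x = x + φ x • v}

theorem stable_of_gens {H' : Subgroup (V ≃ₗ[ZMod p] V)} {S : Set (V ≃ₗ[ZMod p] V)} (hH' : H' ≤ Subgroup.closure S)
    (P : (V ≃ₗ[ZMod p] V) → Prop) (h1 : P 1) (hmul : ∀ a b, P a → P b → P (a * b))
    (hS : ∀ g ∈ S, P g) [Finite V] {h : V ≃ₗ[ZMod p] V} (hh : h ∈ H') : P h := by
  haveI : Finite (V ≃ₗ[ZMod p] V) := Finite.of_injective _ DFunLike.coe_injective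
  have := hH' hh
  clear hh
  induction this using Subgroup.closure_induction with
  | mem x hx => exact hS x hx
  | one => exact h1
  | mul a b _ _ ha hb => exact hmul a b ha hb
  | inv a _ ha =>
    have hpow : ∀ n : ℕ, P (a ^ n) := fun n => by
      induction n with
      | zero => simpa using h1
      | succ n ih => rw [pow_succ]; exact hmul _ _ ih ha
    have : a⁻¹ = a ^ (orderOf a - 1) := by
      rw [inv_eq_iff_mul_eq_one, ← pow_succ', Nat.sub_add_cancel (orderOf_pos a), pow_orderOf_eq_one]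
    rw [this]
    exact hpow _

/-- The centres of the component of `c`. -/
abbrev compW (H : Subgroup (V ≃ₗ[ZMod p] V)) (c : V) : Submodule (ZMod p) V := centres (compRel H c)

/-- The functionals of the component of `c`. -/
abbrev compA (H : Subgroup (V ≃ₗ[ZMod p] V)) (c : V) : Submodule (ZMod p) (Module.Dual (ZMod p) V) :=
  axesSpan (compRel H c)

section

variable [Finite V] (hp : Odd p) (hOp : Cfsg.pCore p ↥H = ⊥)
include hp hOp

theorem perp_of_not_linked {c v : V} {φ : Module.Dual (ZMod p) V} (hv : Tv H v φ) (hne : ¬ Linked (Tv H) c v) :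
    (∀ x ∈ compW H c, φ x = 0) ∧ ∀ χ ∈ compA H c, χ v = 0 := by
  have hS := sys hp hOp
  have h2 := two_ne_zero_zmod hp
  constructor
  · intro x hx
    induction hx using Submodule.span_induction with
    | mem x hx =>
      exact hS.component_perp h2 ⟨_, hx.choose_spec.1⟩ hv fun hl => hne (hx.choose_spec.2.trans hl)
    | zero => exact map_zero φ
    | add x y _ _ hx hy => rw [map_add, hx, hy, add_zero]
    | smul a x _ hx => rw [map_smul, hx, smul_zero]
  · intro χ hχ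
    induction hχ using Submodule.span_induction with
    | mem χ hχ =>
      obtain ⟨u, hu⟩ := hχ
      exact hS.component_perp h2 ⟨φ, hv⟩ hu.1 fun hl => hne (hu.2.trans (linked_symm hl))
    | zero => rfl
    | add x y _ _ hx hy => rw [LinearMap.add_apply, hx, hy, add_zero]
    | smul a x _ hx => rw [LinearMap.smul_apply, hx, smul_zero]

theorem move_compW (hgen : GenByTv H) (c : V) {h : V ≃ₗ[ZMod p] V} (hh : h ∈ H) :
    (∀ x ∈ compW H c, h x ∈ compW H c) ∧
    ∀ x ∈ compW H c, (∀ χ ∈ compA H c, χ x = 0) → h x = x := by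
  refine stable_of_gens hgen (fun h => (∀ x ∈ compW H c, h x ∈ compW H c) ∧
    ∀ x ∈ compW H c, (∀ χ ∈ compA H c, χ x = 0) → h x = x) ?_ ?_ ?_ hh
  · exact ⟨fun x hx => by simpa using hx, fun x _ _ => by simp⟩
  · rintro a b ⟨ha, ha'⟩ ⟨hb, hb'⟩
    refine ⟨fun x hx => ha _ (hb x hx), fun x hx h0 => ?_⟩
    rw [LinearEquiv.mul_apply, hb' x hx h0, ha' x hx h0]
  · rintro g ⟨-, v, φ, hv, hgx⟩
    by_cases hl : Linked (Tv H) c v
    · exact ⟨fun x hx => by rw [hgx]; exact add_mem hx (smul_mem _ _ (mem_centres (R := compRel H c) ⟨hv, hl⟩)),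
        fun x _ h0 => by rw [hgx, h0 φ (mem_axesSpan (R := compRel H c) ⟨hv, hl⟩), zero_smul, add_zero]⟩
    · have h0 := (perp_of_not_linked hp hOp hv hl).1
      exact ⟨fun x hx => by rw [hgx, h0 x hx, zero_smul, add_zero]; exact hx,
        fun x hx _ => by rw [hgx, h0 x hx, zero_smul, add_zero]⟩

theorem faithful (hgen : GenByTv H) (c0 : V) : ∀ c d φ ψ, compRel H c0 c φ → compRel H c0 d ψ → φ d = 0 → ψ c = 0 →
    (∀ x ∈ centres (compRel H c0), φ x = ψ x) → (∀ χ ∈ axesSpan (compRel H c0), χ c = χ d) →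
      ∀ x, φ x • c = ψ x • d := by
  intro c d φ ψ hc hd hφd hψc hW hA
  haveI : Finite (V ≃ₗ[ZMod p] V) := Finite.of_injective _ DFunLike.coe_injective
  set W := compW H c0
  let N : Subgroup H :=
    { carrier := {g : H | (∀ x, (g : V ≃ₗ[ZMod p] V) x - x ∈ W) ∧
        ∀ x ∈ W, ∀ χ ∈ compA H c0, χ ((g : V ≃ₗ[ZMod p] V) x - x) = 0}
      one_mem' := ⟨fun x => by simp, fun x _ χ _ => by simp⟩
      mul_mem' := by
        rintro a b ⟨ha, ha'⟩ ⟨hb, hb'⟩
        have e : ∀ x, ((a * b : H) : V ≃ₗ[ZMod p] V) x - x = ((a : V ≃ₗ[ZMod p] V) ((b : V ≃ₗ[ZMod p] V) x) -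
            (b : V ≃ₗ[ZMod p] V) x) + ((b : V ≃ₗ[ZMod p] V) x - x) := fun x => by simp
        refine ⟨fun x => e x ▸ add_mem (ha _) (hb x), fun x hx χ hχ => ?_⟩
        rw [e, map_add, hb' x hx χ hχ, ha' _ ((move_compW hp hOp hgen c0 b.2).1 x hx) χ hχ, add_zero]
      inv_mem' := by
        rintro a ⟨ha, ha'⟩
        have e : ∀ x, ((a⁻¹ : H) : V ≃ₗ[ZMod p] V) x - x = -((a : V ≃ₗ[ZMod p] V)
            (((a⁻¹ : H) : V ≃ₗ[ZMod p] V) x) - ((a⁻¹ : H) : V ≃ₗ[ZMod p] V) x) := fun x => by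
          simp [LinearEquiv.coe_inv]
        refine ⟨fun x => e x ▸ neg_mem (ha _), fun x hx χ hχ => ?_⟩
        rw [e, map_neg, ha' _ ((move_compW hp hOp hgen c0 (a⁻¹ : H).2).1 x hx) χ hχ, neg_zero] }
  have hNn : N.Normal := by
    refine ⟨fun g ⟨hg, hg'⟩ h => ?_⟩
    have e : ∀ x, ((h * g * h⁻¹ : H) : V ≃ₗ[ZMod p] V) x - x = (h : V ≃ₗ[ZMod p] V)
        ((g : V ≃ₗ[ZMod p] V) (((h⁻¹ : H) : V ≃ₗ[ZMod p] V) x) - ((h⁻¹ : H) : V ≃ₗ[ZMod p] V) x) := fun x => by
      simp [LinearEquiv.coe_inv]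
    refine ⟨fun x => e x ▸ (move_compW hp hOp hgen c0 h.2).1 _ (hg _), fun x hx χ hχ => ?_⟩
    have hy := (move_compW hp hOp hgen c0 (h⁻¹ : H).2).1 x hx
    rw [e, (move_compW hp hOp hgen c0 h.2).2 _ (hg _) fun χ' hχ' => hg' _ hy χ' hχ']
    exact hg' _ hy χ hχ
  have hNp : IsPGroup p N := by
    rintro ⟨⟨g, hgH⟩, hg, hg'⟩
    refine ⟨1, Subtype.ext (Subtype.ext (LinearEquiv.ext fun y => ?_))⟩
    set d1 := g y - y with hd1
    set d2 := g d1 - d1 with hd2
    have hd1W : d1 ∈ W := hg y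
    have hd2W : d2 ∈ W := hg d1
    have hfix : g d2 = d2 := (move_compW hp hOp hgen c0 hgH).2 _ hd2W (fun χ hχ => hg' d1 hd1W χ hχ)
    have hpow : ∀ n : ℕ, (g ^ n) y = y + (n : ZMod p) • d1 + (n.choose 2 : ZMod p) • d2 := fun n => by
      induction n with
      | zero => simp
      | succ n ih =>
        rw [pow_succ', LinearEquiv.mul_apply, ih, map_add, map_add, map_smul, map_smul, hfix,
          show g d1 = d1 + d2 by rw [hd2]; abel, show g y = y + d1 by rw [hd1]; abel, Nat.cast_succ,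
          choose_two_succ, Nat.cast_add]
        module
    simp [hpow p, choose_two_cast hp]
  obtain ⟨g1, hg1, hg1x⟩ := hc.1.2.2.2
  obtain ⟨g2, hg2, hg2x⟩ := scalar_mem hd.1 (-1)
  have hgx : ∀ x, (g1 * g2) x = x + φ x • c - ψ x • d := fun x => by
    rw [LinearEquiv.mul_apply, hg2x, hg1x]
    simp only [map_add, map_smul, hφd, smul_zero, add_zero]
    module
  have hmem : (⟨g1 * g2, mul_mem hg1 hg2⟩ : H) ∈ N := by
    refine ⟨fun x => ?_, fun x hx χ hχ => ?_⟩
    · show (g1 * g2) x - x ∈ W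
      rw [hgx, show x + φ x • c - ψ x • d - x = φ x • c - ψ x • d by abel]
      exact sub_mem (smul_mem _ _ (mem_centres hc)) (smul_mem _ _ (mem_centres hd))
    · show χ ((g1 * g2) x - x) = 0
      rw [hgx, hW x hx]
      simp [hA χ hχ]
  intro x
  have hle : N ≤ Cfsg.pCore p ↥H := le_sSup ⟨hNn, hNp⟩
  have h1 := hle hmem
  rw [hOp, Subgroup.mem_bot] at h1
  have h1' : g1 * g2 = 1 := congrArg Subtype.val h1
  have e := hgx x
  rw [h1', LinearEquiv.coe_one, id, add_sub_assoc, left_eq_add, sub_eq_zero] at e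
  exact e

/-- The structure of one component. -/
theorem component_structure (hgen : GenByTv H) (c : V) :
    (∀ x ∈ compW H c, (∀ φ ∈ compA H c, φ x = 0) → x = 0) ∧
    (∀ φ ∈ compA H c, (∀ x ∈ compW H c, φ x = 0) → φ = 0) ∧
    ((∀ v ∈ compW H c, v ≠ 0 → ∀ φ ∈ compA H c, φ ≠ 0 → φ v = 0 → compRel H c v φ) ∨
      ∃ L : compW H c →ₗ[ZMod p] Module.Dual (ZMod p) V, (∀ x : compW H c, L x (x : V) = 0) ∧
        (∀ x : compW H c, x ≠ 0 → compRel H c (x : V) (L x)) ∧
        ∀ (x : compW H c) φ, compRel H c (x : V) φ → ∃ a : ZMod p, φ = a • L x) := by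
  have h2 := two_ne_zero_zmod hp
  have hS : Sys (compRel H c) := (sys hp hOp).component h2 c
  have hlink : ∀ v w, (∃ φ, compRel H c v φ) → (∃ ψ, compRel H c w ψ) → Linked (compRel H c) v w :=
    fun v w ⟨_, hv⟩ ⟨_, hw⟩ => Sys.component_linked hv.2 ((linked_symm hv.2).trans hw.2)
  by_cases hB : ∃ v φ ψ, compRel H c v φ ∧ compRel H c v ψ ∧ ∀ a : ZMod p, ψ ≠ a • φ
  · obtain ⟨a1, a2, a3⟩ := linear_type hS hlink hB
    exact ⟨a1, a2, Or.inl a3⟩
  · push Not at hB
    obtain ⟨a1, a2, a3⟩ := symplectic_type hS h2 hlink (faithful hp hOp hgen c) hB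
    exact ⟨a1, a2, Or.inr a3⟩

end

end CfsgLib.RootSubgroups.McLaughlin
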