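import Mathlib

/-!
Systems of transvections (centre, functional): components.
-/

set_option autoImplicit false

namespace CfsgLib.RootSubgroups.McLaughlin

open Submodule

variable {K : Type*} [Field K] {V : Type*} [AddCommGroup V] [Module K V]

/-- The closure properties of the set of transvections of a group. -/
structure Sys (R : V → Module.Dual K V → Prop) : Prop where
  ne_left : ∀ {v φ}, R v φ → v ≠ 0
  ne_right : ∀ {v φ}, R v φ → φ ≠ 0
  self : ∀ {v φ}, R v φ → φ v = 0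
  smul_left : ∀ {v φ} {a : K}, R v φ → a ≠ 0 → R (a • v) φ
  smul_right : ∀ {v φ} {a : K}, R v φ → a ≠ 0 → R v (a • φ)
  add_left : ∀ {v w φ}, R v φ → R w φ → v + w ≠ 0 → R (v + w) φ
  add_right : ∀ {v φ ψ}, R v φ → R v ψ → φ + ψ ≠ 0 → R v (φ + ψ)
  conj : ∀ {v w φ ψ}, R v φ → R w ψ → R (v + ψ v • w) (φ - φ w • ψ)
  partner : ∀ {v φ}, R v φ → ∃ w ψ, R w ψ ∧ φ w ≠ 0 ∧ ψ v ≠ 0

variable {R : V → Module.Dual K V → Prop}

/-- Two centres with mutually non-vanishing functionals. -/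
def Adj (R : V → Module.Dual K V → Prop) (v w : V) : Prop :=
  (∃ φ, R v φ ∧ φ w ≠ 0) ∧ ∃ ψ, R w ψ ∧ ψ v ≠ 0

theorem adj_symm {v w : V} (h : Adj R v w) : Adj R w v := ⟨h.2, h.1⟩

/-- Connected by a path. -/
def Linked (R : V → Module.Dual K V → Prop) : V → V → Prop := Relation.ReflTransGen (Adj R)

theorem linked_symm {v w : V} (h : Linked R v w) : Linked R w v := by
  induction h with
  | refl => exact .refl
  | tail _ h' ih => exact .head (adj_symm h') ih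

theorem linked_pt {v w : V} (h : Linked R v w) (hv : ∃ φ, R v φ) : ∃ φ, R w φ := by
  induction h with
  | refl => exact hv
  | tail _ h' _ => exact ⟨_, h'.2.choose_spec.1⟩

theorem exists_avoid_two (h2 : (2 : K) ≠ 0) {a b c d : K} (hb : b ≠ 0 ∨ a ≠ 0) (hd : d ≠ 0 ∨ c ≠ 0) :
    ∃ s : K, a + b * s ≠ 0 ∧ c + d * s ≠ 0 := by
  have one : ∀ {a b : K}, (b ≠ 0 ∨ a ≠ 0) → ∀ {s t : K}, a + b * s = 0 → a + b * t = 0 → s = t := by
    intro a b hb s t hs ht
    rcases eq_or_ne b 0 with rfl | hb0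
    · simp at hs
      exact absurd hs (hb.resolve_left fun h => h rfl)
    · exact mul_left_cancel₀ hb0 (by linear_combination hs - ht)
  have h11 : (1 : K) ≠ -1 := fun h => h2 (by linear_combination h)
  have h01 : (0 : K) ≠ 1 := zero_ne_one
  have h0n : (0 : K) ≠ -1 := fun h => one_ne_zero (neg_eq_zero.1 h.symm)
  by_contra hcon
  push Not at hcon
  have k0 : a + b * 0 = 0 ∨ c + d * 0 = 0 := or_iff_not_imp_left.2 (hcon 0)
  have k1 : a + b * 1 = 0 ∨ c + d * 1 = 0 := or_iff_not_imp_left.2 (hcon 1)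
  have k2 : a + b * -1 = 0 ∨ c + d * -1 = 0 := or_iff_not_imp_left.2 (hcon (-1))
  rcases k0 with u | u <;> rcases k1 with v | v <;> rcases k2 with w | w
  · exact h01 (one hb u v)
  · exact h01 (one hb u v)
  · exact h0n (one hb u w)
  · exact h11 (one hd v w)
  · exact h11 (one hb v w)
  · exact h0n (one hd u w)
  · exact h01 (one hd u v)
  · exact h01 (one hd u v)

theorem exists_both {V' : Type*} [AddCommGroup V'] {W : AddSubgroup V'} {f g : V' →+ K}
    (hf : ∃ x ∈ W, f x ≠ 0) (hg : ∃ x ∈ W, g x ≠ 0) : ∃ x ∈ W, f x ≠ 0 ∧ g x ≠ 0 := by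
  obtain ⟨a, haW, ha⟩ := hf
  obtain ⟨b, hbW, hb⟩ := hg
  by_cases h : g a = 0
  · by_cases h' : f b = 0
    · exact ⟨a + b, W.add_mem haW hbW, by rwa [map_add, h', add_zero], by rwa [map_add, h, zero_add]⟩
    · exact ⟨b, hbW, h', hb⟩
  · exact ⟨a, haW, ha, h⟩

namespace Sys

variable (hS : Sys R)
include hS

/-- The functionals with centre `v`. -/
def axes (v : V) : Submodule K (Module.Dual K V) where
  carrier := {φ | φ = 0 ∨ R v φ}
  zero_mem' := Or.inl rfl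
  add_mem' := by
    rintro φ ψ (rfl | h) (rfl | h')
    · exact Or.inl (zero_add 0)
    · exact Or.inr (by rwa [zero_add])
    · exact Or.inr (by rwa [add_zero])
    · by_cases he : φ + ψ = 0
      · exact Or.inl he
      · exact Or.inr (hS.add_right h h' he)
  smul_mem' := by
    rintro a φ (rfl | h)
    · exact Or.inl (smul_zero a)
    · rcases eq_or_ne a 0 with rfl | ha
      · exact Or.inl (zero_smul K φ)
      · exact Or.inr (hS.smul_right h ha)

theorem mem_axes {v : V} {φ : Module.Dual K V} (h : R v φ) : φ ∈ hS.axes v := Or.inr h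

theorem of_mem_axes {v : V} {φ : Module.Dual K V} (h : φ ∈ hS.axes v) (h0 : φ ≠ 0) : R v φ :=
  h.resolve_left h0

theorem axes_self {v : V} {φ : Module.Dual K V} (h : φ ∈ hS.axes v) : φ v = 0 := by
  rcases h with rfl | h
  · rfl
  · exact hS.self h

theorem comm {v w : V} {φ ψ : Module.Dual K V} (hv : R v φ) (hw : R w ψ) (h : φ w = 0) (h' : ψ v ≠ 0) :
    R w φ := by
  have hc := hS.conj hv hw
  rw [h, zero_smul, sub_zero] at hc
  have e : v + ψ v • w + (-1 : K) • v = ψ v • w := by module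
  have hsum := hS.add_left hc (hS.smul_left hv (neg_ne_zero.2 one_ne_zero))
    (by rw [e]; exact smul_ne_zero h' (hS.ne_left hw))
  rw [e] at hsum
  have := hS.smul_left hsum (inv_ne_zero h')
  rwa [inv_smul_smul₀ h'] at this

/-- Moving a centre along the line to another one. -/
theorem line {v w : V} {φ ψ : Module.Dual K V} (hv : R v φ) (hw : R w ψ) (h : ψ v ≠ 0) (s : K) :
    R (v + s • w) (φ - (φ w * s / ψ v) • ψ) := by
  rcases eq_or_ne s 0 with rfl | hs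
  · simpa using hv
  · have hc := hS.conj hv (hS.smul_right hw (div_ne_zero hs h))
    rwa [LinearMap.smul_apply, smul_eq_mul, div_mul_cancel₀ _ h, smul_smul, ← mul_div_assoc] at hc

theorem exists_axis {v a b : V} (ha : ∃ φ, R v φ ∧ φ a ≠ 0) (hb : ∃ φ, R v φ ∧ φ b ≠ 0) :
    ∃ φ, R v φ ∧ φ a ≠ 0 ∧ φ b ≠ 0 := by
  obtain ⟨φ, h1, h1'⟩ := ha
  obtain ⟨ψ, h2, h2'⟩ := hb
  obtain ⟨ξ, hξ, e1, e2⟩ := exists_both (W := (hS.axes v).toAddSubgroup)
    (f := (LinearMap.applyₗ (R := K) a).toAddMonoidHom) (g := (LinearMap.applyₗ (R := K) b).toAddMonoidHom)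
    ⟨φ, hS.mem_axes h1, h1'⟩ ⟨ψ, hS.mem_axes h2, h2'⟩
  exact ⟨ξ, hS.of_mem_axes hξ fun h => e1 (by rw [h]; rfl), e1, e2⟩

/-- One-sided vanishing between different components. -/
theorem one_way (h2 : (2 : K) ≠ 0) {t s : V} (ht : ∃ φ, R t φ) {ψ : Module.Dual K V} (hs : R s ψ)
    (hne : ¬ Linked R t s) (hψ : ψ t ≠ 0) {u : V} (hu : Linked R t u) {χ : Module.Dual K V} (hχ : R u χ) :
    χ s = 0 := by
  have good : ∀ u, Linked R t u → ψ u ≠ 0 → ∀ χ, R u χ → χ s = 0 := fun u hu hψu χ hχ => by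
    by_contra h
    exact hne (hu.tail ⟨⟨χ, hχ, h⟩, ψ, hs, hψu⟩)
  suffices hI : ∀ u, Linked R t u → ψ u ≠ 0 ∨ ∃ x, Linked R t x ∧ ψ x ≠ 0 ∧ Adj R x u by
    rcases hI u hu with h | ⟨x, hx, hψx, hxu⟩
    · exact good u hu h χ hχ
    obtain ⟨φ, hφ, hφu⟩ := hxu.1
    by_contra hns
    by_cases hu0 : ψ u = 0
    swap
    · exact hns (good u hu hu0 χ hχ)
    obtain ⟨χ', hχ', hχ'x⟩ := hxu.2
    have hc := hS.conj hχ hφ
    have hc' := hS.conj hχ' hφ
    have hlk : Linked R t (u + φ u • x) := by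
      refine hx.tail ⟨⟨φ, hφ, ?_⟩, _, hc', ?_⟩
      · rw [map_add, map_smul, hS.self hφ, smul_zero, add_zero]
        exact hφu
      · simp [hS.self hφ, hχ'x]
    have h0 := good _ hlk (by simp [hu0, hφu, hψx]) _ hc
    simp [good x hx hψx φ hφ] at h0
    exact hns h0
  intro u hu
  induction hu with
  | refl => exact Or.inl hψ
  | @tail y x htu hadj ih =>
    by_cases hy : ψ y ≠ 0
    · exact Or.inr ⟨y, htu, hy, hadj⟩
    obtain ⟨w, hw, hψw, hwy⟩ := ih.resolve_left hy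
    push Not at hy
    obtain ⟨η, hη, hηx, hηw⟩ := hS.exists_axis hadj.1 hwy.2
    obtain ⟨φ, hφ, hφy⟩ := hwy.1
    obtain ⟨ξ, hξ, hξy⟩ := hadj.2
    obtain ⟨k, hk1, hk2⟩ := exists_avoid_two h2 (a := φ x) (b := -(φ y / η w * η x)) (c := ξ w) (d := ξ y)
      (Or.inl (neg_ne_zero.2 (mul_ne_zero (div_ne_zero hφy hηw) hηx))) (Or.inl hξy)
    have hl := hS.line hφ hη hηw k
    refine Or.inr ⟨w + k • y, ?_, by simp [hy, hψw], ⟨_, hl, ?_⟩, ξ, hξ, ?_⟩
    · refine htu.tail ⟨⟨η, hη, ?_⟩, _, hl, ?_⟩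
      · simp [hS.self hη, hηw]
      · simp [hS.self hη, hφy]
    · rw [LinearMap.sub_apply, LinearMap.smul_apply, smul_eq_mul]
      convert hk1 using 1
      ring
    · rw [map_add, map_smul, smul_eq_mul]
      rwa [mul_comm] at hk2

/-- Different components are orthogonal. -/
theorem component_perp (h2 : (2 : K) ≠ 0) {t s : V} (ht : ∃ φ, R t φ) {ψ : Module.Dual K V} (hs : R s ψ)
    (hne : ¬ Linked R t s) : ψ t = 0 := by
  by_contra hψ
  obtain ⟨φ, hφ⟩ := ht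
  have h0 := hS.one_way h2 ⟨φ, hφ⟩ hs hne hψ .refl hφ
  have hsφ := hS.comm hφ hs h0 hψ
  obtain ⟨s', ξ, hξ, hs', hξs⟩ := hS.partner hsφ
  have hlk : Linked R s' s := .single ⟨⟨ξ, hξ, hξs⟩, φ, hsφ, hs'⟩
  exact hψ (hS.one_way h2 ⟨ξ, hξ⟩ hφ (fun h => hne (linked_symm ((linked_symm hlk).trans h))) hs' hlk hs)

theorem linked_of_ne (h2 : (2 : K) ≠ 0) {v w : V} {φ : Module.Dual K V} (hv : R v φ) (hw : ∃ ψ, R w ψ)
    (h : φ w ≠ 0) : Linked R v w := by
  by_contra hne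
  exact h (hS.component_perp h2 hw hv fun hl => hne (linked_symm hl))

/-- The transvections of one component. -/
theorem component (h2 : (2 : K) ≠ 0) (c : V) : Sys fun v φ => R v φ ∧ Linked R c v where
  ne_left h := hS.ne_left h.1
  ne_right h := hS.ne_right h.1
  self h := hS.self h.1
  smul_left {v φ a} h ha := by
    refine ⟨hS.smul_left h.1 ha, h.2.trans ?_⟩
    obtain ⟨w, ψ, hw, hφw, hψv⟩ := hS.partner h.1
    have e1 : Adj R v w := ⟨⟨φ, h.1, hφw⟩, ψ, hw, hψv⟩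
    have e2 : Adj R w (a • v) := ⟨⟨ψ, hw, by simpa [ha] using hψv⟩, φ, hS.smul_left h.1 ha, hφw⟩
    exact Relation.ReflTransGen.tail (Relation.ReflTransGen.single e1) e2
  smul_right h ha := ⟨hS.smul_right h.1 ha, h.2⟩
  add_left {v w φ} hv hw hne := by
    obtain ⟨x, ψ, hx, hφx, hψv⟩ := hS.partner hv.1
    have hs := hS.add_left hv.1 hw.1 hne
    exact ⟨hs, (hv.2.trans (hS.linked_of_ne h2 hv.1 ⟨ψ, hx⟩ hφx)).trans
      (linked_symm (hS.linked_of_ne h2 hs ⟨ψ, hx⟩ hφx))⟩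
  add_right h h' hne := ⟨hS.add_right h.1 h'.1 hne, h.2⟩
  conj {v w φ ψ} hv hw := by
    have hc := hS.conj hv.1 hw.1
    refine ⟨hc, ?_⟩
    by_cases h0 : ψ v = 0
    · rw [h0, zero_smul, add_zero]
      exact hv.2
    · exact hw.2.trans (hS.linked_of_ne h2 hw.1 ⟨_, hc⟩ (by simp [hS.self hw.1, h0]))
  partner {v φ} h := by
    obtain ⟨w, ψ, hw, hφw, hψv⟩ := hS.partner h.1
    exact ⟨w, ψ, ⟨hw, h.2.tail ⟨⟨φ, h.1, hφw⟩, ψ, hw, hψv⟩⟩, hφw, hψv⟩

omit hS in
theorem component_linked {c v w : V} (hv : Linked R c v) (h : Linked R v w) :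
    Linked (fun x φ => R x φ ∧ Linked R c x) v w := by
  induction h with
  | refl => exact .refl
  | @tail y x h1 h' ih =>
    obtain ⟨⟨φ, hφ, e1⟩, ψ, hψ, e2⟩ := h'
    exact ih.tail ⟨⟨φ, ⟨hφ, hv.trans h1⟩, e1⟩, ψ,
      ⟨hψ, (hv.trans h1).tail ⟨⟨φ, hφ, e1⟩, ψ, hψ, e2⟩⟩, e2⟩

end Sys

end CfsgLib.RootSubgroups.McLaughlin
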